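import Cfsg.Agent.Lib.FGStruct.Schmidt.Field
import Cfsg.Agent.Lib.Transfer.Fusion
import Cfsg.Agent.Lib.PLocal.FixedPointFree

/-!
Central covers of the semidirect product of a field by a root of unity, and the universal one.
-/

set_option autoImplicit false
set_option linter.style.haveILetI false
open scoped commutatorElement IsMulCommutative Pointwise
open Multiplicative (ofAdd toAdd)

namespace Cfsg.Agent.SchmidtUniv

universe u

variable {p q : ℕ} [hp : Fact p.Prime] [hq : Fact q.Prime]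

theorem hasNPC_of_nilpotent {K : Type*} [Group K] [Finite K] (hK : Group.IsNilpotent K) :
    Cfsg.HasNormalPComplement p K := by
  refine Fusion.hasNormalPComplement_of_frobenius fun D hD g hg hgo => ?_
  refine Subgroup.mem_centralizer_iff.2 fun d hd => ?_
  obtain ⟨i, hi⟩ := IsPGroup.iff_orderOf.1 hD ⟨d, hd⟩
  rw [Subgroup.orderOf_mk] at hi
  exact (FixedPointFreeThompson.commute_of_nilpotent (hG := hK) hi hgo).symm

variable {F : Type} [Field F] {ζ : F}

/-- Multiplication by a nonzero scalar. -/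
def mulBy (c : F) (hc : c ≠ 0) : MulAut (Multiplicative F) where
  toFun v := ofAdd (c * toAdd v)
  invFun v := ofAdd (c⁻¹ * toAdd v)
  left_inv v := by simp [inv_mul_cancel_left₀ hc]
  right_inv v := by simp [mul_inv_cancel_left₀ hc]
  map_mul' v w := by simp [mul_add]

theorem pow_val_add {n : ℕ} [NeZero n] (hn : ζ ^ n = 1) (i j : ZMod n) :
    ζ ^ (i + j).val = ζ ^ i.val * ζ ^ j.val := by
  rw [ZMod.val_add, ← pow_eq_pow_mod _ hn, pow_add]

/-- The action through powers of `ζ`. -/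
def act {n : ℕ} [NeZero n] (hn : ζ ^ n = 1) : Multiplicative (ZMod n) →* MulAut (Multiplicative F) where
  toFun j := mulBy (ζ ^ (toAdd j).val) (pow_ne_zero _ fun h => by simp [h, NeZero.ne n] at hn)
  map_one' := by ext v; simp [mulBy]
  map_mul' i j := by
    ext v
    simp [mulBy, pow_val_add hn, mul_assoc]

theorem act_apply {n : ℕ} [NeZero n] (hn : ζ ^ n = 1) (j : Multiplicative (ZMod n)) (v : F) :
    act hn j (ofAdd v) = ofAdd (ζ ^ (toAdd j).val * v) := rfl

theorem RootData.pow_qr {a : ℕ} (R : RootData p q a F ζ) {r : ℕ} (hr : 1 ≤ r) : ζ ^ q ^ r = 1 := by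
  obtain ⟨s, rfl⟩ : ∃ s, r = s + 1 := ⟨r - 1, by omega⟩
  rw [pow_succ', pow_mul, R.pow_eq, one_pow]

variable {a r : ℕ} (R : RootData p q a F ζ) (hr : 1 ≤ r)

/-- The semidirect product. -/
abbrev E := Multiplicative F ⋊[act (n := q ^ r) (R.pow_qr hr)] Multiplicative (ZMod (q ^ r))

instance finite_sdp {N G : Type*} [Group N] [Group G] {φ : G →* MulAut N} [Finite N] [Finite G] :
    Finite (N ⋊[φ] G) := Finite.of_equiv _ SemidirectProduct.equivProd.symm

/-- The generator of the top. -/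
def g0 : E R hr := SemidirectProduct.inr (ofAdd 1)

theorem g0_pow (k : ℕ) : (g0 R hr) ^ k = SemidirectProduct.inr (ofAdd (k : ZMod (q ^ r))) := by
  rw [g0, ← map_pow, ← ofAdd_nsmul, nsmul_one]

theorem g0_conj (v : F) : g0 R hr * SemidirectProduct.inl (ofAdd v) * (g0 R hr)⁻¹ = SemidirectProduct.inl (ofAdd (ζ * v)) := by
  haveI : Fact (1 < q ^ r) := ⟨Nat.one_lt_pow (by omega) hq.out.one_lt⟩
  rw [g0, ← map_inv, ← SemidirectProduct.inl_aut, act_apply]
  congr 2
  rw [toAdd_ofAdd, ZMod.val_one, pow_one]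

/-- Every proper subgroup is commutative. -/
theorem comm_of_ne_top (L : Subgroup (E R hr)) (hL : L ≠ ⊤) : ∀ x ∈ L, ∀ y ∈ L, x * y = y * x := by
  by_cases hall : ∀ y ∈ L, q ∣ (toAdd y.right).val
  · intro x hx y hy
    have key : ∀ z ∈ L, ∀ v : Multiplicative F, act (R.pow_qr hr) z.right v = v := by
      intro z hz v
      obtain ⟨k, hk⟩ := hall z hz
      rw [← ofAdd_toAdd v, act_apply, hk, pow_mul, R.pow_eq, one_pow, one_mul]
    ext
    · rw [SemidirectProduct.mul_left, SemidirectProduct.mul_left, key x hx, key y hy, mul_comm]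
    · rw [SemidirectProduct.mul_right, SemidirectProduct.mul_right, mul_comm]
  push Not at hall
  obtain ⟨y, hy, hyq⟩ := hall
  set j := (toAdd y.right).val with hj
  have hconj : ∀ v : F, SemidirectProduct.inl (ofAdd v) ∈ L → SemidirectProduct.inl (ofAdd (ζ ^ j * v)) ∈ L := by
    intro v hv
    have := mul_mem (mul_mem hy hv) (inv_mem hy)
    have e : y * SemidirectProduct.inl (ofAdd v) * y⁻¹ = SemidirectProduct.inl (ofAdd (ζ ^ j * v)) := by
      rw [← SemidirectProduct.inl_left_mul_inr_right y]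
      rw [show ∀ a b c : E R hr, a * b * c * (a * b)⁻¹ = a * (b * c * b⁻¹) * a⁻¹ from fun a b c => by group,
        ← map_inv, ← SemidirectProduct.inl_aut, ← map_inv, ← map_mul, ← map_mul, act_apply, mul_comm y.left,
        mul_inv_cancel_right]
    rwa [e] at this
  obtain ⟨i, -, hi⟩ := Nat.exists_mul_mod_eq_one_of_coprime
    ((hq.out.coprime_iff_not_dvd.2 hyq).symm) hq.out.one_lt
  let A : AddSubgroup F :=
    { carrier := {v | SemidirectProduct.inl (ofAdd v) ∈ L}
      zero_mem' := by simp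
      add_mem' := fun {v w} hv hw => by simpa using mul_mem hv hw
      neg_mem' := fun {v} hv => by
        have h : SemidirectProduct.inl (ofAdd v) ∈ L := hv
        show SemidirectProduct.inl (ofAdd (-v)) ∈ L
        rw [ofAdd_neg, map_inv]; exact inv_mem h }
  have hpow : ∀ k : ℕ, ∀ v ∈ A, ζ ^ (j * k) * v ∈ A := by
    intro k
    induction k with
    | zero => intro v hv; simpa using hv
    | succ k ih =>
      intro v hv
      rw [Nat.mul_succ, pow_add, mul_comm (ζ ^ (j * k)), mul_assoc]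
      exact hconj _ (ih v hv)
  have hstab : ∀ v ∈ A, ζ * v ∈ A := fun v hv => by
    have := hpow i v hv
    rwa [pow_eq_pow_mod (j * i) R.pow_eq, hi, pow_one] at this
  rcases R.stable A hstab with hA | hA
  · -- the projection to the top is injective
    intro x hx z hz
    have h1 : (x * z * x⁻¹ * z⁻¹).right = 1 := by simp
    have h2 : x * z * x⁻¹ * z⁻¹ = SemidirectProduct.inl (x * z * x⁻¹ * z⁻¹).left := by
      ext
      · simp
      · rw [h1, SemidirectProduct.right_inl]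
    have h3 : toAdd (x * z * x⁻¹ * z⁻¹).left ∈ A := by
      show SemidirectProduct.inl (ofAdd (toAdd (x * z * x⁻¹ * z⁻¹).left)) ∈ L
      rw [ofAdd_toAdd, ← h2]
      exact mul_mem (mul_mem (mul_mem hx hz) (inv_mem hx)) (inv_mem hz)
    rw [hA, AddSubgroup.mem_bot, toAdd_eq_zero] at h3
    rw [h3, map_one, mul_inv_eq_one, mul_inv_eq_iff_eq_mul] at h2
    exact h2
  · exfalso
    refine hL (eq_top_iff.2 fun x _ => ?_)
    have hinl : ∀ v : Multiplicative F, SemidirectProduct.inl v ∈ L := fun v => by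
      have : toAdd v ∈ A := hA ▸ AddSubgroup.mem_top _
      simpa [A] using this
    have hyr : SemidirectProduct.inr y.right ∈ L := by
      have := mul_mem (hinl y.left⁻¹) hy
      nth_rewrite 2 [← SemidirectProduct.inl_left_mul_inr_right y] at this
      rwa [← mul_assoc, ← map_mul, inv_mul_cancel, map_one, one_mul] at this
    have hcop : Nat.Coprime j (q ^ r) := ((hq.out.coprime_iff_not_dvd.2 hyq).symm).pow_right r
    obtain ⟨i', -, hi'⟩ := Nat.exists_mul_mod_eq_one_of_coprime hcop (Nat.one_lt_pow (by omega) hq.out.one_lt)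
    have hgen : g0 R hr ∈ L := by
      have := pow_mem hyr i'
      rw [← map_pow, ← ofAdd_toAdd y.right, ← ofAdd_nsmul, nsmul_eq_mul, ← ZMod.natCast_zmod_val (toAdd y.right),
        ← hj, ← Nat.cast_mul, mul_comm, ← ZMod.natCast_mod, hi', Nat.cast_one] at this
      exact this
    rw [← SemidirectProduct.inl_left_mul_inr_right x, ← ofAdd_toAdd x.right,
      ← ZMod.natCast_zmod_val (toAdd x.right), ← g0_pow R hr]
    exact mul_mem (hinl _) (pow_mem hgen _)

theorem sup_eq_top {L : Subgroup (E R hr)} (h1 : ∀ v : F, SemidirectProduct.inl (ofAdd v) ∈ L) (h2 : g0 R hr ∈ L) :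
    L = ⊤ := by
  refine eq_top_iff.2 fun x _ => ?_
  rw [← SemidirectProduct.inl_left_mul_inr_right x, ← ofAdd_toAdd x.right,
    ← ZMod.natCast_zmod_val (toAdd x.right), ← g0_pow R hr, ← ofAdd_toAdd x.left]
  exact mul_mem (h1 _) (pow_mem h2 _)

variable [Finite F] [CharP F p]

theorem isPGroup_mult : IsPGroup p (Multiplicative F) := fun v => ⟨1, by
  rw [← ofAdd_toAdd v, ← ofAdd_nsmul, nsmul_eq_mul, pow_one, CharP.cast_eq_zero, zero_mul, ofAdd_zero]⟩

omit [CharP F p] in
theorem card_E : Nat.card (E R hr) = p ^ a * q ^ r := by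
  rw [SemidirectProduct.card, Nat.card_congr Multiplicative.toAdd, Nat.card_congr Multiplicative.toAdd, R.card,
    Nat.card_zmod]

include hr in
theorem not_npc (hpq : p ≠ q) : ¬ Cfsg.HasNormalPComplement p (E R hr) := fun h => by
  have hQ : IsPGroup p (SemidirectProduct.inl : Multiplicative F →* E R hr).range := by
    rw [MonoidHom.range_eq_map]
    exact ((isPGroup_mult (p := p) (F := F)).to_subgroup ⊤).map _
  have hgn : g0 R hr ∈ Subgroup.normalizer (((SemidirectProduct.inl : Multiplicative F →* E R hr).range :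
      Subgroup (E R hr)) : Set (E R hr)) := Subgroup.mem_normalizer_fintype fun w hw => by
    obtain ⟨v, rfl⟩ := hw
    exact ⟨ofAdd (ζ * toAdd v), by rw [← g0_conj R hr, ofAdd_toAdd]⟩
  have hgo : (orderOf (g0 R hr)).Coprime p := by
    refine Nat.Coprime.coprime_dvd_left (orderOf_dvd_of_pow_eq_one (n := q ^ r) ?_)
      (Nat.Coprime.pow_left r ((Nat.coprime_primes hq.out hp.out).2 hpq.symm))
    rw [g0_pow, ZMod.natCast_self, ofAdd_zero, map_one]
  have := Subgroup.mem_centralizer_iff.1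
    (Fusion.mem_centralizer_of_hasNormalPComplement hQ (PBasic.hasNormalPComplement_subgroup _ h) hgn hgo)
    _ ⟨ofAdd 1, rfl⟩
  have e := g0_conj R hr 1
  rw [← this, mul_inv_cancel_right, SemidirectProduct.inl_inj, mul_one] at e
  exact R.ne_one (ofAdd.injective e).symm

/-- A central `p`-cover, minimal. -/
structure Cover {X : Type*} [Group X] (π : X →* E R hr) : Prop where
  surj : Function.Surjective π
  central : π.ker ≤ Subgroup.center X
  pg : IsPGroup p π.ker
  minimal : ∀ K : Subgroup X, K.map π = ⊤ → K = ⊤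

variable {X : Type*} [Group X] [Finite X] {π : X →* E R hr}

omit [CharP F p] in
theorem Cover.schmidt (hC : Cover R hr π) {K : Subgroup X} (hK : K ≠ ⊤) : Cfsg.HasNormalPComplement p K := by
  have hcomm := comm_of_ne_top R hr (K.map π) fun h => hK (hC.minimal K h)
  haveI : IsMulCommutative (K.map π) := ⟨⟨fun x y => Subtype.ext (hcomm x x.2 y y.2)⟩⟩
  haveI : Group.IsNilpotent (K.map π) := by
    letI : CommGroup (K.map π) := { (inferInstance : Group (K.map π)) with mul_comm := mul_comm' }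
    infer_instance
  refine hasNPC_of_nilpotent (Subgroup.isNilpotent_of_ker_le_center (π.subgroupMap K) (fun x hx => ?_))
  refine Subgroup.mem_center_iff.2 fun y => Subtype.ext ?_
  exact Subgroup.mem_center_iff.1 (hC.central (MonoidHom.mem_ker.2 (congrArg Subtype.val (MonoidHom.mem_ker.1 hx)))) y

theorem Cover.not_hasNPC (hC : Cover R hr π) (hpq : p ≠ q) : ¬ Cfsg.HasNormalPComplement p X := fun h =>
  not_npc R hr hpq (PBasic.hasNormalPComplement_of_surjective π hC.surj h)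

omit [CharP F p] in
theorem Cover.card (hC : Cover R hr π) : Nat.card X = Nat.card π.ker * (p ^ a * q ^ r) := by
  rw [← card_E R hr, ← Nat.card_congr (QuotientGroup.quotientKerEquivOfSurjective π hC.surj).toEquiv,
    ← Subgroup.index_eq_card, Subgroup.card_mul_index]

theorem comm_of_central {u v z w : X} (hz : z ∈ Subgroup.center X) (hw : w ∈ Subgroup.center X) :
    ⁅u * z, v * w⁆ = ⁅u, v⁆ := by
  rw [commutatorElement_def, commutatorElement_def]
  have h1 : ∀ x, z * x = x * z := fun x => (Subgroup.mem_center_iff.1 hz x).symm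
  have h2 : ∀ x, w * x = x * w := fun x => (Subgroup.mem_center_iff.1 hw x).symm
  calc u * z * (v * w) * (u * z)⁻¹ * (v * w)⁻¹ = u * (z * v) * (w * z⁻¹) * u⁻¹ * w⁻¹ * v⁻¹ := by group
    _ = u * (v * z) * (z⁻¹ * w) * u⁻¹ * w⁻¹ * v⁻¹ := by rw [h1 v, h2 z⁻¹]
    _ = u * v * (w * u⁻¹) * w⁻¹ * v⁻¹ := by group
    _ = u * v * (u⁻¹ * w) * w⁻¹ * v⁻¹ := by rw [h2 u⁻¹]
    _ = u * v * u⁻¹ * v⁻¹ := by group

/-- The kernel of a minimal cover is small. -/
theorem Cover.card_ker_le (hC : Cover R hr π) (hpq : p ≠ q) {K : Type} [AddCommGroup K]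
    (D : CommData.{u} p a F ζ K) {Y : Type u} [Group Y] (eY : Y ≃* X) : Nat.card π.ker ≤ Nat.card K := by
  classical
  set P := ((SemidirectProduct.inl : Multiplicative F →* E R hr).range).comap π with hPdef
  have hlift : ∀ v : F, ∃ x : X, π x = SemidirectProduct.inl (ofAdd v) := fun v => hC.surj _
  choose s hs using hlift
  have hcz : ∀ x, x ∈ π.ker → eY.symm x ∈ Subgroup.center Y := fun x hx => Subgroup.mem_center_iff.2 fun y => by
    apply eY.injective
    rw [map_mul, map_mul, MulEquiv.apply_symm_apply]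
    exact Subgroup.mem_center_iff.1 (hC.central hx) _
  have hker : ∀ v w, ⁅s v, s w⁆ ∈ π.ker := fun v w => by
    rw [MonoidHom.mem_ker, map_commutatorElement, hs, hs, commutatorElement_eq_one_iff_mul_comm,
      ← map_mul (SemidirectProduct.inl), ← map_mul (SemidirectProduct.inl), mul_comm (ofAdd v)]
  have hwd : ∀ (x y : X) (v w : F), π x = SemidirectProduct.inl (ofAdd v) → π y = SemidirectProduct.inl (ofAdd w) →
      ⁅x, y⁆ = ⁅s v, s w⁆ := by
    intro x y v w hx hy
    have h1 : (s v)⁻¹ * x ∈ π.ker := by rw [MonoidHom.mem_ker, map_mul, map_inv, hs, hx, inv_mul_cancel]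
    have h2 : (s w)⁻¹ * y ∈ π.ker := by rw [MonoidHom.mem_ker, map_mul, map_inv, hs, hy, inv_mul_cancel]
    rw [show x = s v * ((s v)⁻¹ * x) by group, show y = s w * ((s w)⁻¹ * y) by group,
      comm_of_central (hC.central h1) (hC.central h2)]
  have hadd1 : ∀ u v w, ⁅s (u + v), s w⁆ = ⁅s u, s w⁆ * ⁅s v, s w⁆ := by
    intro u v w
    rw [← hwd (s u * s v) (s w) (u + v) w (by rw [map_mul, hs, hs, ← map_mul, ← ofAdd_add]) (hs w)]
    have hc := Subgroup.mem_center_iff.1 (hC.central (hker v w))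
    calc ⁅s u * s v, s w⁆ = s u * ⁅s v, s w⁆ * (s w * (s u)⁻¹ * (s w)⁻¹) := by
          rw [commutatorElement_def, commutatorElement_def]; group
      _ = ⁅s v, s w⁆ * (s u * (s w * (s u)⁻¹ * (s w)⁻¹)) := by rw [hc (s u), mul_assoc]
      _ = ⁅s v, s w⁆ * ⁅s u, s w⁆ := by rw [commutatorElement_def (s u)]; group
      _ = ⁅s u, s w⁆ * ⁅s v, s w⁆ := (hc _).symm
  have hswap : ∀ v w, ⁅s v, s w⁆ = ⁅s w, s v⁆⁻¹ := fun v w => (commutatorElement_inv _ _).symm
  have hadd2 : ∀ u v w, ⁅s u, s (v + w)⁆ = ⁅s u, s v⁆ * ⁅s u, s w⁆ := fun u v w => by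
    rw [hswap u (v + w), hadd1, mul_inv_rev, ← hswap, ← hswap]
    exact (Subgroup.mem_center_iff.1 (hC.central (hker u w)) _).symm
  let β : F →+ F →+ Additive (Subgroup.center Y) := AddMonoidHom.mk'
    (fun v => AddMonoidHom.mk' (fun w => Additive.ofMul ⟨eY.symm ⁅s v, s w⁆, hcz _ (hker v w)⟩)
      fun w w' => Additive.toMul.injective (Subtype.ext (by simp [hadd2])))
    fun v v' => AddMonoidHom.ext fun w => Additive.toMul.injective (Subtype.ext (by simp [hadd1]))
  -- an element of order prime to `p` above the generator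
  obtain ⟨g1, hg1⟩ := hC.surj (g0 R hr)
  obtain ⟨k, hk⟩ := IsPGroup.iff_card.1 hC.pg
  have hn1 : 1 < q ^ r := Nat.one_lt_pow (by omega) hq.out.one_lt
  have hcop : Nat.Coprime (p ^ k) (q ^ r) := Nat.Coprime.pow _ _ ((Nat.coprime_primes hp.out hq.out).2 hpq)
  obtain ⟨e, -, he⟩ := Nat.exists_mul_mod_eq_one_of_coprime hcop hn1
  set g := g1 ^ (p ^ k * e) with hg
  have hgπ : π g = g0 R hr := by
    rw [hg, map_pow, hg1, g0_pow, ← ZMod.natCast_mod, he, Nat.cast_one]; rfl
  have hg1n : g1 ^ (q ^ r) ∈ π.ker := by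
    rw [MonoidHom.mem_ker, map_pow, hg1, g0_pow, ZMod.natCast_self, ofAdd_zero, map_one]
  have hgn : g ^ (q ^ r) = 1 := by
    rw [hg, ← pow_mul, show p ^ k * e * q ^ r = q ^ r * (p ^ k * e) by ring, pow_mul, pow_mul]
    have := pow_card_eq_one' (x := (⟨_, hg1n⟩ : π.ker))
    rw [hk] at this
    have h : (g1 ^ q ^ r) ^ p ^ k = 1 := congrArg Subtype.val this
    rw [h, one_pow]
  have hconjπ : ∀ x : X, ∀ v, π x = SemidirectProduct.inl (ofAdd v) →
      π (g * x * g⁻¹) = SemidirectProduct.inl (ofAdd (ζ * v)) := fun x v hx => by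
    rw [map_mul, map_mul, map_inv, hgπ, hx, g0_conj]
  have hinv : ∀ v w, β (ζ * v) (ζ * w) = β v w := fun v w => by
    apply Additive.toMul.injective
    refine Subtype.ext ?_
    show eY.symm ⁅s (ζ * v), s (ζ * w)⁆ = eY.symm ⁅s v, s w⁆
    rw [← hwd _ _ _ _ (hconjπ _ _ (hs v)) (hconjπ _ _ (hs w)),
      show ⁅g * s v * g⁻¹, g * s w * g⁻¹⁆ = g * ⁅s v, s w⁆ * g⁻¹ by
        rw [commutatorElement_def, commutatorElement_def]; group,
      Subgroup.mem_center_iff.1 (hC.central (hker v w)) g, mul_inv_cancel_right]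
  have halt : ∀ v, β v v = 0 := fun v => Additive.toMul.injective (Subtype.ext (by simp [β]))
  obtain ⟨L, hL, hLf, hLc⟩ := D.bound (Additive (Subgroup.center Y)) β hinv halt
  haveI := hLf
  -- its image in `X`
  set N0 : Subgroup X := (AddSubgroup.toSubgroup' L).map (eY.toMonoidHom.comp (Subgroup.center Y).subtype) with hN0
  have hN0c : N0 ≤ Subgroup.center X := by
    rintro _ ⟨z, -, rfl⟩
    refine Subgroup.mem_center_iff.2 fun x => ?_
    show x * eY (z : Y) = eY (z : Y) * x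
    rw [← eY.apply_symm_apply x, ← map_mul, ← map_mul, Subgroup.mem_center_iff.1 z.2]
  have hN0card : Nat.card N0 ≤ Nat.card K := le_trans (le_of_eq (Subgroup.card_map_of_injective
    (eY.injective.comp (Subgroup.center Y).subtype_injective))) (le_trans (le_of_eq rfl) hLc)
  refine le_trans (Subgroup.card_le_of_le ?_) hN0card
  haveI : N0.Normal := ⟨fun z hz x => by
    rw [Subgroup.mem_center_iff.1 (hN0c hz) x, mul_inv_cancel_right]; exact hz⟩
  have hPmem : ∀ x ∈ P, ∃ v, π x = SemidirectProduct.inl (ofAdd v) := fun x hx => by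
    obtain ⟨v, hv⟩ := hx
    exact ⟨toAdd v, by rw [ofAdd_toAdd, hv]⟩
  set mk := QuotientGroup.mk' N0 with hmk
  have hPab : ∀ x ∈ P, ∀ y ∈ P, mk x * mk y = mk y * mk x := by
    intro x hx y hy
    obtain ⟨v, hv⟩ := hPmem x hx
    obtain ⟨w, hw⟩ := hPmem y hy
    rw [← commutatorElement_eq_one_iff_mul_comm, ← map_commutatorElement, hwd x y v w hv hw]
    refine (QuotientGroup.eq_one_iff _).2 ⟨⟨eY.symm ⁅s v, s w⁆, hcz _ (hker v w)⟩, hL v w, ?_⟩
    show eY (eY.symm _) = _
    rw [MulEquiv.apply_symm_apply]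
  have hgP : ∀ x ∈ P, g * x * g⁻¹ ∈ P := fun x hx => by
    obtain ⟨v, hv⟩ := hPmem x hx
    exact ⟨ofAdd (ζ * v), (hconjπ x v hv).symm⟩
  let ρ : P →* X ⧸ N0 := MonoidHom.mk' (fun x => mk ((x : X)⁻¹ * (g * x * g⁻¹))) fun x y => by
    show mk (((x * y : P) : X)⁻¹ * (g * ((x * y : P) : X) * g⁻¹)) = _
    rw [Subgroup.coe_mul, show ((x : X) * y)⁻¹ * (g * (x * y) * g⁻¹) =
        (y : X)⁻¹ * ((x : X)⁻¹ * (g * x * g⁻¹)) * (g * y * g⁻¹) by group, map_mul, map_mul,
      hPab _ (inv_mem y.2) _ (mul_mem (inv_mem x.2) (hgP x x.2)), mul_assoc, ← map_mul mk (y : X)⁻¹]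
  set W := P ⊓ ρ.range.comap mk with hW
  have hWg : Subgroup.zpowers g ≤ Subgroup.normalizer (W : Set X) := Subgroup.zpowers_le.2
    (Subgroup.mem_normalizer_fintype fun w hw => by
      obtain ⟨x, hx⟩ := Subgroup.mem_comap.1 hw.2
      refine Subgroup.mem_inf.2 ⟨hgP w hw.1, Subgroup.mem_comap.2 ⟨⟨g * x * g⁻¹, hgP x x.2⟩, ?_⟩⟩
      show mk ((g * (x : X) * g⁻¹)⁻¹ * (g * (g * x * g⁻¹) * g⁻¹)) = mk (g * w * g⁻¹)
      rw [show (g * (x : X) * g⁻¹)⁻¹ * (g * (g * x * g⁻¹) * g⁻¹) = g * ((x : X)⁻¹ * (g * x * g⁻¹)) * g⁻¹ by group,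
        map_mul, map_mul, map_mul mk (g * w), map_mul mk g w]
      exact congrArg (fun z => mk g * z * mk g⁻¹) hx)
  have hT : W ⊔ Subgroup.zpowers g = ⊤ := by
    refine hC.minimal _ (sup_eq_top R hr (fun v => ?_) ⟨g, Subgroup.mem_sup_right (Subgroup.mem_zpowers g), hgπ⟩)
    have hz : ζ - 1 ≠ 0 := sub_ne_zero.2 R.ne_one
    set v' := (ζ - 1)⁻¹ * v with hv'
    have hsP : s v' ∈ P := ⟨ofAdd v', (hs v').symm⟩
    refine ⟨(s v')⁻¹ * (g * s v' * g⁻¹), Subgroup.mem_sup_left (Subgroup.mem_inf.2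
      ⟨mul_mem (inv_mem hsP) (hgP _ hsP), Subgroup.mem_comap.2 ⟨⟨s v', hsP⟩, rfl⟩⟩), ?_⟩
    rw [map_mul, map_inv, hs, hconjπ _ _ (hs v'), ← map_inv, ← map_mul, ← ofAdd_neg, ← ofAdd_add]
    congr 2
    calc -v' + ζ * v' = (ζ - 1) * ((ζ - 1)⁻¹ * v) := by rw [hv']; ring
      _ = v := mul_inv_cancel_left₀ hz v
  intro d hd
  have hdT : d ∈ (W : Set X) * (Subgroup.zpowers g : Set X) := by
    rw [← Subgroup.coe_mul_of_right_le_normalizer_left W _ hWg, hT]; exact Subgroup.mem_top d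
  obtain ⟨w, hw, z, hz, rfl⟩ := Set.mem_mul.1 hdT
  obtain ⟨i, rfl⟩ := Subgroup.mem_zpowers_iff.1 hz
  obtain ⟨v, hv⟩ := hPmem w hw.1
  have hgi : g ^ i = 1 := by
    have h0 := congrArg SemidirectProduct.right (MonoidHom.mem_ker.1 hd)
    rw [map_mul, hv, map_zpow, hgπ, g0, ← map_zpow, SemidirectProduct.mul_right, SemidirectProduct.right_inl,
      SemidirectProduct.right_inr, one_mul, SemidirectProduct.one_right, ← ofAdd_zsmul, ofAdd_eq_one,
      zsmul_one, ZMod.intCast_zmod_eq_zero_iff_dvd] at h0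
    obtain ⟨c, rfl⟩ := h0
    rw [zpow_mul, zpow_natCast, hgn, one_zpow]
  rw [hgi, mul_one] at hd ⊢
  obtain ⟨x, hx⟩ := Subgroup.mem_comap.1 hw.2
  have hd' : ((x : X)⁻¹ * (g * x * g⁻¹))⁻¹ * w ∈ N0 := QuotientGroup.eq.1 hx
  set n0 := ((x : X)⁻¹ * (g * x * g⁻¹))⁻¹ * w with hn0
  set d' := w * n0⁻¹ with hd'def
  have hgx : g * x * g⁻¹ = x * d' := by rw [hd'def, hn0]; group
  have hd'c : d' ∈ Subgroup.center X := mul_mem (hC.central hd) (inv_mem (hN0c hd'))
  have hit : ∀ m : ℕ, g ^ m * x * (g ^ m)⁻¹ = x * d' ^ m := by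
    intro m
    induction m with
    | zero => simp
    | succ m ih =>
      calc g ^ (m + 1) * x * (g ^ (m + 1))⁻¹ = g * (g ^ m * x * (g ^ m)⁻¹) * g⁻¹ := by rw [pow_succ']; group
        _ = g * x * (d' ^ m * g⁻¹) := by rw [ih]; group
        _ = g * x * (g⁻¹ * d' ^ m) := by rw [Subgroup.mem_center_iff.1 (pow_mem hd'c m) g⁻¹]
        _ = g * x * g⁻¹ * d' ^ m := by group
        _ = x * d' ^ (m + 1) := by rw [hgx, pow_succ', mul_assoc]
  have hd'n := hit (q ^ r)
  rw [hgn, one_mul, inv_one, mul_one, eq_comm, mul_eq_left] at hd'n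
  have hn0p : ∃ j, orderOf d' ∣ p ^ j := by
    have hn0k : n0 ∈ π.ker := by
      obtain ⟨z, hz, e⟩ := hd'
      obtain ⟨v, hv⟩ := hPmem x x.2
      have hπ : π ((x : X)⁻¹ * (g * x * g⁻¹)) = π n0⁻¹ := by
        rw [show n0⁻¹ = w⁻¹ * ((x : X)⁻¹ * (g * x * g⁻¹)) by rw [hn0]; group, map_mul π w⁻¹, map_inv π w,
          MonoidHom.mem_ker.1 hd, inv_one, one_mul]
      have h1 : ((x : X)⁻¹ * (g * x * g⁻¹)) ∈ π.ker := by
        have hcπ : ∀ y, π n0 * y = y * π n0 := fun y => by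
          obtain ⟨x', rfl⟩ := hC.surj y
          rw [← map_mul, ← map_mul, Subgroup.mem_center_iff.1 (hN0c ⟨z, hz, e⟩) x']
        have h2 := hcπ (g0 R hr)
        rw [show π n0 = (π ((x : X)⁻¹ * (g * x * g⁻¹)))⁻¹ by rw [hπ, map_inv, inv_inv]] at h2
        rw [map_mul, map_inv, hv, hconjπ _ _ hv, ← map_inv, ← map_mul, ← ofAdd_neg, ← ofAdd_add, ← map_inv,
          ← ofAdd_neg] at h2
        have h3 := g0_conj R hr (-(-v + ζ * v))
        rw [← h2, mul_inv_cancel_right, SemidirectProduct.inl_inj] at h3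
        have h4 : (ζ - 1) * (-(-v + ζ * v)) = 0 := by
          have := ofAdd.injective h3
          linear_combination -this
        have h5 := (mul_eq_zero.1 h4).resolve_left (sub_ne_zero.2 R.ne_one)
        rw [MonoidHom.mem_ker, map_mul, map_inv, hv, hconjπ _ _ hv, ← map_inv, ← map_mul, ← ofAdd_neg, ← ofAdd_add,
          neg_eq_zero.1 h5, ofAdd_zero, map_one]
      exact mul_mem (inv_mem h1) hd
    obtain ⟨j, hj⟩ := hC.pg ⟨d', mul_mem hd (inv_mem hn0k)⟩
    exact ⟨j, orderOf_dvd_of_pow_eq_one (congrArg Subtype.val hj)⟩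
  obtain ⟨j, hj⟩ := hn0p
  have hd'1 : d' = 1 := orderOf_eq_one_iff.1 (Nat.eq_one_of_dvd_coprimes
    ((Nat.Coprime.pow _ _ ((Nat.coprime_primes hp.out hq.out).2 hpq))) hj (orderOf_dvd_of_pow_eq_one hd'n))
  have : w = n0 := by
    rw [hd'def, mul_inv_eq_one] at hd'1
    exact hd'1
  rw [this]; exact hd'

end Cfsg.Agent.SchmidtUniv
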