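import Mathlib

/-!
The field generated by a root of unity and the commutator data of the universal minimal non-nilpotent group.
-/

set_option autoImplicit false
set_option linter.style.haveILetI false

namespace Cfsg.Agent.SchmidtUniv

universe u

theorem zmod_two_eq_one : ∀ z : ZMod 2, z ≠ 0 → z = 1 := by decide

variable {p q : ℕ} [hp : Fact p.Prime] [hq : Fact q.Prime]

/-- The data of a field generated by an element of order `q`. -/
structure RootData (p q a : ℕ) (F : Type) [Field F] (ζ : F) : Prop where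
  card : Nat.card F = p ^ a
  order : orderOf ζ = q
  gen : Subring.closure ({ζ} : Set F) = ⊤
  apos : 0 < a
  ord : a = orderOf (p : ZMod q)

theorem natCast_ne_zero (hpq : p ≠ q) : (p : ZMod q) ≠ 0 := fun h =>
  hpq (((Nat.prime_dvd_prime_iff_eq hq.out hp.out).1 ((ZMod.natCast_eq_zero_iff p q).1 h)).symm)

theorem orderOf_pos' (hpq : p ≠ q) : 0 < orderOf (p : ZMod q) :=
  Nat.pos_of_ne_zero fun h => by
    rw [orderOf_eq_zero_iff'] at h
    exact h (q - 1) (Nat.sub_pos_of_lt hq.out.one_lt) (ZMod.pow_card_sub_one_eq_one (natCast_ne_zero hpq))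

theorem exists_rootData (hpq : p ≠ q) {a : ℕ} (ha : a = orderOf (p : ZMod q)) :
    ∃ (F : Type) (_ : Field F) (_ : Finite F) (_ : CharP F p) (ζ : F), RootData p q a F ζ := by
  have hapos : 0 < a := ha ▸ orderOf_pos' hpq
  have hcard := GaloisField.card p a hapos.ne'
  refine ⟨GaloisField p a, inferInstance, inferInstance, inferInstance, ?_⟩
  have hdvd : q ∣ Nat.card (GaloisField p a)ˣ := by
    rw [Nat.card_units, hcard, ← ZMod.natCast_eq_zero_iff, Nat.cast_sub (Nat.one_le_pow _ _ hp.out.pos),
      Nat.cast_pow, ha, pow_orderOf_eq_one, Nat.cast_one, sub_self]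
  obtain ⟨u, hu⟩ := exists_prime_orderOf_dvd_card' q hdvd
  refine ⟨(u : GaloisField p a), hcard, by rw [orderOf_units, hu], ?_, hapos, ha⟩
  set S := Subring.closure ({(u : GaloisField p a)} : Set (GaloisField p a)) with hS
  classical
  haveI : Fintype S := Fintype.ofFinite S
  haveI : CharP S p := RingHom.charP S.subtype Subtype.val_injective p
  letI : Field S := Fintype.fieldOfDomain S
  obtain ⟨b, -, hb⟩ := FiniteField.card S p
  have hne : (⟨(u : GaloisField p a), Subring.subset_closure rfl⟩ : S) ≠ 0 := fun h =>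
    u.ne_zero (congrArg Subtype.val h)
  have h1 := congrArg Subtype.val (FiniteField.pow_card_sub_one_eq_one _ hne)
  simp only [SubmonoidClass.coe_pow, OneMemClass.coe_one] at h1
  rw [hb, ← orderOf_dvd_iff_pow_eq_one, orderOf_units, hu, ← ZMod.natCast_eq_zero_iff,
    Nat.cast_sub (Nat.one_le_pow _ _ hp.out.pos), Nat.cast_pow, Nat.cast_one, sub_eq_zero,
    ← orderOf_dvd_iff_pow_eq_one, ← ha] at h1
  have hle : p ^ a ≤ Fintype.card S := hb ▸ Nat.pow_le_pow_right hp.out.pos (Nat.le_of_dvd b.pos h1)
  rw [← hcard, ← Nat.card_eq_fintype_card] at hle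
  have h2 : (S : Set (GaloisField p a)) = Set.univ :=
    Set.eq_of_subset_of_ncard_le (Set.subset_univ _)
      (by rw [Set.ncard_univ]; exact hle.trans_eq (Nat.card_coe_set_eq _)) (Set.toFinite _)
  exact SetLike.coe_injective (h2.trans Subring.coe_top.symm)

variable {F : Type} [Field F] {ζ : F} {a : ℕ}

theorem RootData.ne_one (R : RootData p q a F ζ) : ζ ≠ 1 := fun h => by
  have := R.order
  rw [h, orderOf_one] at this
  exact hq.out.ne_one this.symm

theorem RootData.ne_zero (R : RootData p q a F ζ) : ζ ≠ 0 := fun h => by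
  have h1 := pow_orderOf_eq_one ζ
  rw [R.order, h, zero_pow hq.out.ne_zero] at h1
  exact zero_ne_one h1

theorem RootData.pow_eq (R : RootData p q a F ζ) : ζ ^ q = 1 := R.order ▸ pow_orderOf_eq_one ζ

/-- An additive subgroup stable under `ζ` is trivial or everything. -/
theorem RootData.stable (R : RootData p q a F ζ) (A : AddSubgroup F) (h : ∀ x ∈ A, ζ * x ∈ A) : A = ⊥ ∨ A = ⊤ := by
  by_cases hA : A = ⊥
  · exact Or.inl hA
  obtain ⟨x, hx, hx0⟩ : ∃ x ∈ A, x ≠ 0 := by
    by_contra hh
    push Not at hh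
    exact hA (eq_bot_iff.2 fun x hx => hh x hx)
  right
  let T : Subring F :=
    { carrier := {c | ∀ v ∈ A, c * v ∈ A}
      one_mem' := fun v hv => by simpa using hv
      mul_mem' := fun {c d} hc hd v hv => by rw [mul_assoc]; exact hc _ (hd v hv)
      zero_mem' := fun v _ => by simp
      add_mem' := fun {c d} hc hd v hv => by rw [add_mul]; exact add_mem (hc v hv) (hd v hv)
      neg_mem' := fun {c} hc v hv => by rw [neg_mul]; exact neg_mem (hc v hv) }
  have hT : T = ⊤ := top_le_iff.1 (R.gen ▸ Subring.closure_le.2 (Set.singleton_subset_iff.2 fun v hv => h v hv))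
  refine eq_top_iff.2 fun c _ => ?_
  have := (hT ▸ Subring.mem_top (c * x⁻¹) : c * x⁻¹ ∈ T) x hx
  rwa [inv_mul_cancel_right₀ hx0] at this

/-- A bilinear invariant form is carried by `ζ ↦ ζ⁻¹`. -/
theorem RootData.adjoint (R : RootData p q a F ζ) {K : Type*} [AddCommGroup K] (β : F →+ F →+ K)
    (hinv : ∀ x y, β (ζ * x) (ζ * y) = β x y) (σ : F →+* F) (hσ : σ ζ = ζ⁻¹) (x v w : F) :
    β (x * v) w = β v (σ x * w) := by
  let T : Subring F :=
    { carrier := {c | ∀ v w, β (c * v) w = β v (σ c * w)}
      one_mem' := fun v w => by rw [map_one, one_mul, one_mul]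
      mul_mem' := fun {c d} hc hd v w => by rw [mul_assoc, hc, hd, RingHom.map_mul, ← mul_assoc, mul_comm (σ c)]
      zero_mem' := fun v w => by simp
      add_mem' := fun {c d} hc hd v w => by simp [add_mul, hc v w, hd v w]
      neg_mem' := fun {c} hc v w => by simp [neg_mul, hc v w] }
  have hmem : ζ ∈ T := fun v w => by
    rw [hσ, ← hinv v (ζ⁻¹ * w), mul_inv_cancel_left₀ R.ne_zero]
  exact (top_le_iff.1 (R.gen ▸ Subring.closure_le.2 (Set.singleton_subset_iff.2 hmem)) ▸ Subring.mem_top x : x ∈ T) v w

variable [Finite F] [CharP F p]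

/-- If `q` divides `p ^ k + 1` for a positive `k ≤ a`... the inverse of `ζ` is a Frobenius image when `a` is even. -/
theorem RootData.exists_sigma (R : RootData p q a F ζ) (hev : a % 2 = 0) :
    ∃ σ : F →+* F, σ ζ = ζ⁻¹ ∧ (∀ x, σ (σ x) = x) ∧ σ ≠ RingHom.id F := by
  haveI : ExpChar F p := ExpChar.prime hp.out
  obtain ⟨h, hh⟩ : ∃ h, a = h + h := ⟨a / 2, by omega⟩
  have hpos := R.apos
  have e1 : ((p : ZMod q) ^ h) * (p : ZMod q) ^ h = 1 := by
    rw [← pow_add, ← hh, R.ord, pow_orderOf_eq_one]
  have e2 : (p : ZMod q) ^ h ≠ 1 := fun e => by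
    have := Nat.le_of_dvd (by omega) (orderOf_dvd_of_pow_eq_one e)
    rw [← R.ord] at this
    omega
  have e3 : (p : ZMod q) ^ h + 1 = 0 := by
    rcases mul_self_eq_one_iff.1 e1 with e | e
    · exact absurd e e2
    · rw [e, neg_add_cancel]
  have hdvd : q ∣ p ^ h + 1 := by
    rw [← ZMod.natCast_eq_zero_iff, Nat.cast_add, Nat.cast_pow, Nat.cast_one, e3]
  have hs : iterateFrobenius F p h ζ = ζ⁻¹ := by
    rw [iterateFrobenius_def]
    refine eq_inv_of_mul_eq_one_left ?_
    rw [← pow_succ, ← orderOf_dvd_iff_pow_eq_one, R.order]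
    exact hdvd
  refine ⟨iterateFrobenius F p h, hs, fun x => ?_, fun e => e2 ?_⟩
  · haveI : Fintype F := Fintype.ofFinite F
    rw [iterateFrobenius_def, iterateFrobenius_def, ← pow_mul, ← pow_add, ← hh, ← R.card,
      Nat.card_eq_fintype_card, FiniteField.pow_card]
  · have h3 : ζ ^ 2 = 1 := by
      rw [e, RingHom.id_apply] at hs
      rw [pow_two]
      conv_lhs => arg 2; rw [hs]
      exact mul_inv_cancel₀ R.ne_zero
    have h4 : q ∣ 2 := R.order ▸ orderOf_dvd_of_pow_eq_one h3
    obtain rfl := (Nat.prime_dvd_prime_iff_eq hq.out Nat.prime_two).1 h4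
    have hne : (p : ZMod 2) ^ h ≠ 0 := fun e0 => by rw [e0, zero_add] at e3; exact one_ne_zero e3
    exact zmod_two_eq_one _ hne

/-- The commutator data. -/
structure CommData (p a : ℕ) (F : Type) [Field F] (ζ : F) (K : Type) [AddCommGroup K] where
  c : F →+ F →+ K
  finite : Finite K
  inv : ∀ x y, c (ζ * x) (ζ * y) = c x y
  span : AddSubgroup.closure (Set.range fun z : F × F => c z.1 z.2 - c z.2 z.1) = ⊤
  card : p ^ a * Nat.card K = p ^ (if a % 2 = 1 then a else 3 * a / 2)
  bound : ∀ (M : Type u) [AddCommGroup M] (β : F →+ F →+ M), (∀ x y, β (ζ * x) (ζ * y) = β x y) →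
    (∀ x, β x x = 0) → ∃ L : AddSubgroup M, (∀ x y, β x y ∈ L) ∧ Finite L ∧ Nat.card L ≤ Nat.card K

theorem RootData.exists_commData (R : RootData p q a F ζ) :
    ∃ (K : Type) (_ : AddCommGroup K), Nonempty (CommData.{u} p a F ζ K) := by
  by_cases hev : a % 2 = 0
  swap
  · -- no inverse conjugate, so no invariant forms
    have hodd : a % 2 = 1 := by omega
    refine ⟨PUnit, inferInstance, ⟨0, inferInstance, fun _ _ => rfl, Subsingleton.elim _ _, ?_, ?_⟩⟩
    · simp [hodd]
    intro M _ β hinv halt
    suffices h : ∀ x y, β x y = 0 from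
      ⟨⊥, fun x y => by simp [h x y], inferInstance, by simp⟩
    by_cases hz : ζ⁻¹ = ζ
    · -- then `ζ = -1` generates the prime field
      have hζ2 : ζ ^ 2 = 1 := by
        rw [pow_two]; nth_rewrite 2 [← hz]; exact mul_inv_cancel₀ R.ne_zero
      have hneg : ζ = -1 := by
        rcases sq_eq_one_iff.1 hζ2 with e | e
        · exact absurd e R.ne_one
        · exact e
      intro x y
      have hcl : ∀ c : F, c ∈ AddSubgroup.closure ({(1 : F)} : Set F) := fun c => by
        have hle : Subring.closure ({ζ} : Set F) ≤ (⊥ : Subring F) := by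
          rw [Subring.closure_le, Set.singleton_subset_iff, hneg]
          exact neg_mem (one_mem _)
        obtain ⟨k, hk⟩ := Subring.mem_bot.1 (hle (R.gen ▸ Subring.mem_top c))
        exact AddSubgroup.mem_closure_singleton.2 ⟨k, by rw [← hk]; simp⟩
      obtain ⟨i, hi⟩ := AddSubgroup.mem_closure_singleton.1 (hcl x)
      obtain ⟨j, hj⟩ := AddSubgroup.mem_closure_singleton.1 (hcl y)
      rw [← hi, ← hj, map_zsmul, map_zsmul, AddMonoidHom.smul_apply, halt 1, smul_zero, smul_zero]
    · intro x y
      letI : Algebra (ZMod p) F := ZMod.algebra F p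
      haveI : Module.Finite (ZMod p) F := Module.Finite.of_finite
      let T : Subring (F × F) :=
        { carrier := {c | ∀ v w, β (c.1 * v) w = β v (c.2 * w)}
          one_mem' := fun v w => by simp
          mul_mem' := fun {c d} hc hd v w => by
            rw [Prod.fst_mul, Prod.snd_mul, mul_assoc, hc, hd, ← mul_assoc, mul_comm c.2]
          zero_mem' := fun v w => by simp
          add_mem' := fun {c d} hc hd v w => by simp [add_mul, hc v w, hd v w]
          neg_mem' := fun {c} hc v w => by simp [neg_mul, hc v w] }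
      have hmem : (ζ, ζ⁻¹) ∈ T := fun v w => by
        rw [← hinv v (ζ⁻¹ * w), mul_inv_cancel_left₀ R.ne_zero]
      have hev' : ∀ f : Polynomial (ZMod p), Polynomial.aeval (ζ, ζ⁻¹) f ∈ T := by
        intro f
        induction f using Polynomial.induction_on' with
        | add f g hf hg => rw [map_add]; exact add_mem hf hg
        | monomial k c =>
          rw [Polynomial.aeval_monomial, show algebraMap (ZMod p) (F × F) c = ((c.val : ℕ) : F × F) by
            rw [← map_natCast (algebraMap (ZMod p) (F × F)), ZMod.natCast_zmod_val]]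
          exact mul_mem (natCast_mem T _) (pow_mem hmem k)
      set f := minpoly (ZMod p) ζ with hf
      have h0 := hev' f
      rw [Polynomial.aeval_prod_apply, minpoly.aeval] at h0
      by_cases hroot : Polynomial.aeval ζ⁻¹ f = 0
      · exfalso
        -- an automorphism inverting `ζ` makes the degree even
        have hadj : Algebra.adjoin (ZMod p) ({ζ} : Set F) = ⊤ := by
          refine top_le_iff.1 fun c _ => ?_
          have hle : Subring.closure ({ζ} : Set F) ≤ (Algebra.adjoin (ZMod p) ({ζ} : Set F)).toSubring :=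
            Subring.closure_le.2 Algebra.subset_adjoin
          exact hle (R.gen ▸ Subring.mem_top c)
        obtain ⟨pb, hpb⟩ : ∃ pb : PowerBasis (ZMod p) F, pb.gen = ζ :=
          ⟨PowerBasis.ofAdjoinEqTop (Algebra.IsIntegral.isIntegral ζ) hadj, PowerBasis.ofAdjoinEqTop_gen _ _⟩
        let τ : F →ₐ[ZMod p] F := pb.lift ζ⁻¹ (by rw [hpb]; exact hroot)
        have hτ : τ ζ = ζ⁻¹ := (congrArg τ hpb.symm).trans (pb.lift_gen ζ⁻¹ (by rw [hpb]; exact hroot))
        let τ' : F ≃ₐ[ZMod p] F := AlgEquiv.ofBijective τ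
          ⟨τ.toRingHom.injective, Finite.surjective_of_injective τ.toRingHom.injective⟩
        have hτ2 : τ' ^ 2 = 1 := by
          refine AlgEquiv.coe_algHom_injective (pb.algHom_ext ?_)
          rw [hpb]
          show τ (τ ζ) = ζ
          rw [hτ, map_inv₀, hτ, inv_inv]
        have hτ1 : τ' ≠ 1 := fun e => hz (by
          have := congrArg (fun φ : F ≃ₐ[ZMod p] F => φ ζ) e
          exact hτ.symm.trans this)
        have h2 : orderOf τ' = 2 := orderOf_eq_prime hτ2 hτ1
        have hd := orderOf_dvd_natCard τ'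
        rw [h2, IsGalois.card_aut_eq_finrank (ZMod p) F] at hd
        have hfr : Module.finrank (ZMod p) F = a := by
          haveI : Fintype F := Fintype.ofFinite F
          have h := Module.card_eq_pow_finrank (K := ZMod p) (V := F)
          rw [ZMod.card, ← Nat.card_eq_fintype_card, R.card] at h
          exact (Nat.pow_right_injective hp.out.two_le h).symm
        rw [hfr] at hd
        omega
      · have := h0 x ((Polynomial.aeval ζ⁻¹ f)⁻¹ * y)
        simp only [zero_mul, map_zero, AddMonoidHom.zero_apply] at this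
        rw [mul_inv_cancel_left₀ hroot] at this
        exact this.symm
  obtain ⟨σ, hσz, hσσ, hσ1⟩ := R.exists_sigma hev
  -- an element of trace one
  obtain ⟨e, he⟩ : ∃ e : F, e + σ e ≠ 0 := by
    by_contra h
    push Not at h
    refine hσ1 (RingHom.ext fun x => ?_)
    have h1 := h 1
    rw [map_one] at h1
    have h2 := h x
    have h3 : x + x = 0 := by
      calc x + x = x * (1 + 1) := by ring
        _ = 0 := by rw [h1, mul_zero]
    rw [RingHom.id_apply]
    linear_combination h2 - h3
  set w0 := e / (e + σ e) with hw0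
  have hw : w0 + σ w0 = 1 := by
    rw [hw0, map_div₀, map_add, hσσ, add_comm (σ e) e, ← add_div, div_self he]
  let tr : F →+ F :=
    { toFun := fun x => x + σ x, map_zero' := by simp, map_add' := fun x y => by rw [map_add]; ring }
  let Kr : AddSubgroup F := tr.ker
  have hKr : ∀ x, x ∈ Kr ↔ x + σ x = 0 := fun x => Iff.rfl
  let pr : F →+ Kr :=
    { toFun := fun u => ⟨u - w0 * (u + σ u), by
        rw [hKr]
        calc u - w0 * (u + σ u) + σ (u - w0 * (u + σ u)) = (u + σ u) * (1 - (w0 + σ w0)) := by
              rw [map_sub, map_mul, map_add, hσσ]; ring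
          _ = 0 := by rw [hw, sub_self, mul_zero]⟩
      map_zero' := Subtype.ext (by simp)
      map_add' := fun u v => Subtype.ext (by
        show u + v - w0 * (u + v + σ (u + v)) = (u - w0 * (u + σ u)) + (v - w0 * (v + σ v))
        rw [map_add]; ring) }
  let c : F →+ F →+ Kr :=
    AddMonoidHom.mk' (fun x => AddMonoidHom.mk' (fun y => pr (σ x * y)) fun y z => by rw [mul_add, map_add])
      fun x y => AddMonoidHom.ext fun z => by simp [add_mul]
  have hck : ∀ x y, ((c x y - c y x : Kr) : F) = σ x * y - σ y * x := by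
    intro x y
    show σ x * y - w0 * (σ x * y + σ (σ x * y)) - (σ y * x - w0 * (σ y * x + σ (σ y * x))) = _
    simp only [map_mul, hσσ]
    ring
  -- the size of the kernel
  obtain ⟨e0, he0⟩ : ∃ e0 : F, e0 - σ e0 ≠ 0 := by
    by_contra h
    push Not at h
    exact hσ1 (RingHom.ext fun x => (sub_eq_zero.1 (h x)).symm)
  set k0 := e0 - σ e0 with hk0
  have hk0m : σ k0 = -k0 := by rw [hk0, map_sub, hσσ]; ring
  let eqv : F ≃ Kr × Kr :=
    { toFun := fun u => (pr u, ⟨k0 * (u + σ u), by rw [hKr, map_mul, map_add, hσσ, hk0m]; ring⟩)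
      invFun := fun z => (z.1 : F) + w0 * ((z.2 : F) / k0)
      left_inv := fun u => by
        show u - w0 * (u + σ u) + w0 * (k0 * (u + σ u) / k0) = u
        rw [mul_div_cancel_left₀ _ he0]; ring
      right_inv := fun z => by
        obtain ⟨⟨k, hk⟩, ⟨l, hl⟩⟩ := z
        rw [hKr] at hk hl
        have hlk : σ (l / k0) = l / k0 := by
          rw [map_div₀, hk0m, eq_neg_of_add_eq_zero_right hl, neg_div_neg_eq]
        have key : k + w0 * (l / k0) + σ (k + w0 * (l / k0)) = l / k0 := by
          calc k + w0 * (l / k0) + σ (k + w0 * (l / k0)) = (k + σ k) + (w0 + σ w0) * (l / k0) := by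
                rw [map_add, map_mul, hlk]; ring
            _ = l / k0 := by rw [hk, hw, zero_add, one_mul]
        refine Prod.ext (Subtype.ext ?_) (Subtype.ext ?_)
        · show k + w0 * (l / k0) - w0 * (k + w0 * (l / k0) + σ (k + w0 * (l / k0))) = k
          rw [key, add_sub_cancel_right]
        · show k0 * (k + w0 * (l / k0) + σ (k + w0 * (l / k0))) = l
          rw [key, mul_div_cancel₀ _ he0] }
  have hcK : Nat.card Kr * Nat.card Kr = p ^ a := by rw [← Nat.card_prod, ← Nat.card_congr eqv, R.card]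
  have hcK' : Nat.card Kr = p ^ (a / 2) := by
    refine Nat.mul_self_inj.1 ?_
    rw [hcK, ← pow_add]; congr 1; omega
  refine ⟨Kr, inferInstance, ⟨c, inferInstance, fun x y => ?_, ?_, ?_, ?_⟩⟩
  · show pr (σ (ζ * x) * (ζ * y)) = pr (σ x * y)
    congr 1
    rw [map_mul, hσz]
    field_simp [R.ne_zero]
  · refine top_le_iff.1 fun k _ => AddSubgroup.subset_closure ⟨(1, (k : F) * w0), Subtype.ext ?_⟩
    show ((c 1 ((k : F) * w0) - c ((k : F) * w0) 1 : Kr) : F) = k
    rw [hck, map_one, one_mul, mul_one, map_mul, eq_neg_of_add_eq_zero_right ((hKr _).1 k.2)]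
    linear_combination (k : F) * hw
  · rw [hcK', ← pow_add, if_neg (by omega)]
    congr 1
    omega
  · intro M _ β hinv halt
    let L : F →+ M := β 1
    have hβ : ∀ v w, β v w = L (σ v * w) := fun v w => by
      have := R.adjoint β hinv σ hσz v 1 w
      rwa [mul_one] at this
    have hsym : ∀ x, L (x + σ x) = 0 := fun x => by
      have h1 := halt (1 + x)
      simp only [map_add, AddMonoidHom.add_apply, halt, zero_add, add_zero] at h1
      rw [hβ x 1, mul_one] at h1
      rw [map_add]
      show β 1 x + L (σ x) = 0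
      calc β 1 x + L (σ x) = L (σ x) + β 1 x := add_comm _ _
        _ = 0 := h1
    let L' : Kr →+ M := L.comp ((AddMonoidHom.mulRight w0).comp Kr.subtype)
    have hfac : ∀ u, L u ∈ L'.range := fun u => by
      have hu : u - σ u ∈ Kr := by rw [hKr, map_sub, hσσ]; ring
      refine ⟨⟨u - σ u, hu⟩, ?_⟩
      show L ((u - σ u) * w0) = L u
      set r := u - (u - σ u) * w0 with hr
      have hrf : σ r = r := by
        rw [hr, map_sub, map_mul, map_sub, hσσ]
        linear_combination (u - σ u) * hw
      have h0 : L r = 0 := by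
        have := hsym (w0 * r)
        rwa [map_mul, hrf, ← add_mul, hw, one_mul] at this
      rw [hr, map_sub, sub_eq_zero] at h0
      exact h0.symm
    refine ⟨L'.range, fun x y => hβ x y ▸ hfac _, ?_, ?_⟩
    · exact (Set.finite_range _).to_subtype
    · exact Nat.card_le_card_of_surjective _ (AddMonoidHom.rangeRestrict_surjective _)

end Cfsg.Agent.SchmidtUniv
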