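import Cfsg.Agent.Lib.FGStruct.Schmidt.Cover

/-!
The universal central cover of the semidirect product.
-/

set_option autoImplicit false
set_option linter.style.haveILetI false
open scoped commutatorElement
open Multiplicative (ofAdd toAdd)

namespace Cfsg.Agent.SchmidtUniv

universe u

variable {F K : Type} [AddCommGroup F] [AddCommGroup K]

/-- The extension defined by a bilinear map. -/
@[ext] structure Ext (c : F →+ F →+ K) where
  v : F
  k : K

variable {c : F →+ F →+ K}

instance : Mul (Ext c) := ⟨fun x y => ⟨x.v + y.v, x.k + y.k + c x.v y.v⟩⟩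
instance : One (Ext c) := ⟨⟨0, 0⟩⟩
instance : Inv (Ext c) := ⟨fun x => ⟨-x.v, -x.k + c x.v x.v⟩⟩

@[simp] theorem Ext.mul_v (x y : Ext c) : (x * y).v = x.v + y.v := rfl
@[simp] theorem Ext.mul_k (x y : Ext c) : (x * y).k = x.k + y.k + c x.v y.v := rfl
@[simp] theorem Ext.one_v : (1 : Ext c).v = 0 := rfl
@[simp] theorem Ext.one_k : (1 : Ext c).k = 0 := rfl
@[simp] theorem Ext.inv_v (x : Ext c) : x⁻¹.v = -x.v := rfl
@[simp] theorem Ext.inv_k (x : Ext c) : x⁻¹.k = -x.k + c x.v x.v := rfl

instance : Group (Ext c) where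
  mul_assoc x y z := by ext <;> simp [add_assoc, add_comm, add_left_comm]
  one_mul x := by ext <;> simp
  mul_one x := by ext <;> simp
  inv_mul_cancel x := by ext <;> simp [add_comm]

/-- The underlying pair. -/
def Ext.equivProd (c : F →+ F →+ K) : Ext c ≃ F × K where
  toFun x := (x.v, x.k)
  invFun z := ⟨z.1, z.2⟩
  left_inv _ := rfl
  right_inv _ := rfl

instance [Finite F] [Finite K] : Finite (Ext c) := Finite.of_equiv _ (Ext.equivProd c).symm

/-- The projection. -/
def Ext.proj : Ext c →* Multiplicative F where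
  toFun x := ofAdd x.v
  map_one' := rfl
  map_mul' _ _ := rfl

theorem Ext.commutator (x y : Ext c) : ⁅x, y⁆ = ⟨0, c x.v y.v - c y.v x.v⟩ := by
  rw [commutatorElement_def, mul_inv_eq_iff_eq_mul, mul_inv_eq_iff_eq_mul]
  ext
  · simp [add_comm]
  · simp only [Ext.mul_k, Ext.mul_v, zero_add, map_add, map_zero, AddMonoidHom.zero_apply, AddMonoidHom.add_apply]
    abel

section
variable {p q : ℕ} [hp : Fact p.Prime] [hq : Fact q.Prime]
variable {a r : ℕ} {F : Type} [Field F] {ζ : F} {K : Type} [AddCommGroup K]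
variable (R : RootData p q a F ζ) (hr : 1 ≤ r) (D : CommData.{u} p a F ζ K)

omit hp hq in
theorem CommData.inv_pow (j : ℕ) : ∀ x y, D.c (ζ ^ j * x) (ζ ^ j * y) = D.c x y := by
  induction j with
  | zero => intro x y; simp
  | succ j ih => intro x y; rw [pow_succ', mul_assoc, mul_assoc, D.inv, ih]

/-- The action on the extension. -/
def actExt {n : ℕ} [NeZero n] (hn : ζ ^ n = 1) : Multiplicative (ZMod n) →* MulAut (Ext D.c) where
  toFun j :=
    { toFun := fun x => ⟨ζ ^ (toAdd j).val * x.v, x.k⟩
      invFun := fun x => ⟨(ζ ^ (toAdd j).val)⁻¹ * x.v, x.k⟩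
      left_inv := fun x => by
        have : ζ ^ (toAdd j).val ≠ 0 := pow_ne_zero _ fun h => by simp [h, NeZero.ne n] at hn
        ext <;> simp [inv_mul_cancel_left₀ this]
      right_inv := fun x => by
        have : ζ ^ (toAdd j).val ≠ 0 := pow_ne_zero _ fun h => by simp [h, NeZero.ne n] at hn
        ext <;> simp [mul_inv_cancel_left₀ this]
      map_mul' := fun x y => by ext <;> simp [mul_add, D.inv_pow] }
  map_one' := by ext x <;> simp
  map_mul' i j := by ext x <;> simp [pow_val_add hn, mul_assoc]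

theorem actExt_v {n : ℕ} [NeZero n] (hn : ζ ^ n = 1) (j : Multiplicative (ZMod n)) (x : Ext D.c) :
    (actExt D hn j x).v = ζ ^ (toAdd j).val * x.v := rfl

theorem actExt_k {n : ℕ} [NeZero n] (hn : ζ ^ n = 1) (j : Multiplicative (ZMod n)) (x : Ext D.c) :
    (actExt D hn j x).k = x.k := rfl

/-- The universal group. -/
abbrev G0 := Ext D.c ⋊[actExt D (n := q ^ r) (R.pow_qr hr)] Multiplicative (ZMod (q ^ r))

/-- Its map to the semidirect product. -/
def π0 : G0 R hr D →* E R hr :=
  SemidirectProduct.map Ext.proj (MonoidHom.id _) fun _ => rfl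

theorem π0_apply_left (x : G0 R hr D) : (π0 R hr D x).left = ofAdd x.left.v := rfl
theorem π0_apply_right (x : G0 R hr D) : (π0 R hr D x).right = x.right := rfl

theorem π0_surj : Function.Surjective (π0 R hr D) := fun e =>
  ⟨⟨⟨toAdd e.left, 0⟩, e.right⟩, rfl⟩

theorem mem_ker_π0 {x : G0 R hr D} (hx : x ∈ (π0 R hr D).ker) : x.left.v = 0 ∧ x.right = 1 :=
  ⟨ofAdd.injective (congrArg SemidirectProduct.left (MonoidHom.mem_ker.1 hx)),
    (congrArg SemidirectProduct.right (MonoidHom.mem_ker.1 hx) :)⟩

/-- The kernel is the second factor. -/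
def kerEquiv : (π0 R hr D).ker ≃ K where
  toFun x := x.1.left.k
  invFun k := ⟨⟨⟨0, k⟩, 1⟩, rfl⟩
  left_inv x := by
    obtain ⟨h1, h2⟩ := mem_ker_π0 R hr D x.2
    exact Subtype.ext (SemidirectProduct.ext (Ext.ext h1.symm rfl) h2.symm)
  right_inv _ := rfl

theorem π0_card_ker : Nat.card (π0 R hr D).ker = Nat.card K := Nat.card_congr (kerEquiv R hr D)

theorem π0_central : (π0 R hr D).ker ≤ Subgroup.center (G0 R hr D) := fun x hx => by
  obtain ⟨h1, h2⟩ := mem_ker_π0 R hr D hx
  refine Subgroup.mem_center_iff.2 fun y => ?_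
  refine SemidirectProduct.ext (Ext.ext ?_ ?_) ?_
  · simp [SemidirectProduct.mul_left, h1, h2, actExt_v]
  · simp [SemidirectProduct.mul_left, h1, h2, actExt_v, actExt_k, add_comm]
  · simp [h2]

theorem π0_cover [Finite F] : Cover R hr (π0 R hr D) where
  surj := π0_surj R hr D
  central := π0_central R hr D
  pg := by
    haveI := D.finite
    obtain ⟨k, -, hk⟩ := (Nat.dvd_prime_pow hp.out).1 (Dvd.intro_left _ D.card : Nat.card K ∣ _)
    exact IsPGroup.of_card (n := k) (by rw [π0_card_ker, hk])
  minimal := fun L hL => by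
    haveI := D.finite
    have hk : ∀ x ∈ (π0 R hr D).ker, x ∈ L := by
      let A : AddSubgroup K :=
        { carrier := {k | SemidirectProduct.inl (⟨0, k⟩ : Ext D.c) ∈ L}
          zero_mem' := one_mem L
          add_mem' := fun {k l} hk hl => by
            have hk' : SemidirectProduct.inl (⟨0, k⟩ : Ext D.c) ∈ L := hk
            have hl' : SemidirectProduct.inl (⟨0, l⟩ : Ext D.c) ∈ L := hl
            have h := mul_mem hk' hl'
            rw [← map_mul] at h
            have e : (⟨0, k⟩ : Ext D.c) * ⟨0, l⟩ = ⟨0, k + l⟩ := by ext <;> simp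
            rw [e] at h
            exact h
          neg_mem' := fun {k} hk => by
            have h : SemidirectProduct.inl (⟨0, k⟩ : Ext D.c) ∈ L := hk
            have h' := inv_mem h
            rw [← map_inv] at h'
            have e : (⟨0, k⟩ : Ext D.c)⁻¹ = ⟨0, -k⟩ := by ext <;> simp
            rw [e] at h'
            exact h' }
      have hA : A = ⊤ := by
        refine top_le_iff.1 (D.span ▸ (AddSubgroup.closure_le A).2 ?_)
        rintro _ ⟨⟨v, w⟩, rfl⟩
        have hlift : ∀ v : F, ∃ x : Ext D.c, x.v = v ∧ SemidirectProduct.inl x ∈ L := fun v => by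
          have h : SemidirectProduct.inl (ofAdd v) ∈ L.map (π0 R hr D) := hL ▸ Subgroup.mem_top _
          obtain ⟨x, hx, e⟩ := h
          refine ⟨x.left, ofAdd.injective (congrArg SemidirectProduct.left e), ?_⟩
          have hr1 : x.right = 1 := (congrArg SemidirectProduct.right e :)
          have : x = SemidirectProduct.inl x.left := by
            ext1
            · rfl
            · exact hr1
          rwa [this] at hx
        obtain ⟨x, hxv, hx⟩ := hlift v
        obtain ⟨y, hyv, hy⟩ := hlift w
        have h := mul_mem (mul_mem (mul_mem hx hy) (inv_mem hx)) (inv_mem hy)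
        rw [← commutatorElement_def, ← map_commutatorElement, Ext.commutator, hxv, hyv] at h
        exact h
      intro x hx
      obtain ⟨h1, h2⟩ := mem_ker_π0 R hr D hx
      have h : SemidirectProduct.inl (⟨0, x.left.k⟩ : Ext D.c) ∈ L := (hA ▸ AddSubgroup.mem_top x.left.k : x.left.k ∈ A)
      have e : x = SemidirectProduct.inl (⟨0, x.left.k⟩ : Ext D.c) :=
        SemidirectProduct.ext (Ext.ext h1 rfl) h2
      rwa [← e] at h
    have := Subgroup.comap_map_eq (π0 R hr D) L
    rwa [hL, Subgroup.comap_top, sup_eq_left.2 hk, eq_comm] at this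

theorem card_G0 [Finite F] : Nat.card (G0 R hr D) = p ^ (if a % 2 = 1 then a else 3 * a / 2) * q ^ r := by
  haveI := D.finite
  rw [(π0_cover R hr D).card, π0_card_ker, ← mul_assoc, mul_comm (Nat.card K), D.card]

theorem Cover.comp_equiv {X Y : Type*} [Group X] [Group Y] {π : X →* E R hr} (hC : Cover R hr π) (e : Y ≃* X) :
    Cover R hr (π.comp e.toMonoidHom) where
  surj := hC.surj.comp e.surjective
  central := fun y hy => Subgroup.mem_center_iff.2 fun z => e.injective (by
    rw [map_mul, map_mul]
    exact Subgroup.mem_center_iff.1 (hC.central hy) (e z))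
  pg := fun ⟨y, hy⟩ => by
    obtain ⟨k, hk⟩ := hC.pg ⟨e y, hy⟩
    refine ⟨k, Subtype.ext (e.injective ?_)⟩
    show e (y ^ p ^ k) = e 1
    rw [map_pow, map_one]
    exact congrArg Subtype.val hk
  minimal := fun L hL => by
    have h := hC.minimal (L.map e.toMonoidHom) (by rw [Subgroup.map_map]; exact hL)
    rw [← Subgroup.map_top_of_surjective e.toMonoidHom e.surjective] at h
    exact Subgroup.map_injective e.injective h

/-- A minimal subgroup with a given image. -/
theorem exists_minimal_map {X Y : Type*} [Group X] [Finite X] [Group Y] (f : X →* Y) (hf : Function.Surjective f) :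
    ∃ M : Subgroup X, M.map f = ⊤ ∧ ∀ L : Subgroup X, L ≤ M → L.map f = ⊤ → L = M := by
  classical
  have hex : ∃ n, ∃ M : Subgroup X, Nat.card M = n ∧ M.map f = ⊤ :=
    ⟨_, ⊤, rfl, Subgroup.map_top_of_surjective f hf⟩
  obtain ⟨M, hM, hMf⟩ := Nat.find_spec hex
  exact ⟨M, hMf, fun L hLM hL => Subgroup.eq_of_le_of_card_ge hLM
    (hM ▸ Nat.find_min' hex ⟨L, rfl, hL⟩)⟩

include D in
/-- Universality. -/
theorem universal [Finite F] [CharP F p] (hpq : p ≠ q) {G X : Type u} [Group G] [Finite G] [Group X] [Finite X]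
    {π₁ : G →* E R hr} (h₁ : Cover R hr π₁) (hker : Nat.card π₁.ker = Nat.card K)
    {π : X →* E R hr} (h : Cover R hr π) :
    ∃ φ : G →* X, Function.Surjective φ ∧ φ.ker ≤ Subgroup.center G := by
  set S := MonoidHom.eqLocus (π₁.comp (MonoidHom.fst G X)) (π.comp (MonoidHom.snd G X)) with hS
  set ψ : S →* E R hr := (π₁.comp (MonoidHom.fst G X)).comp S.subtype with hψ
  have hψs : Function.Surjective ψ := fun e => by
    obtain ⟨g, hg⟩ := h₁.surj e
    obtain ⟨x, hx⟩ := h.surj e
    exact ⟨⟨(g, x), hg.trans hx.symm⟩, hg⟩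
  obtain ⟨M, hM, hMmin⟩ := exists_minimal_map ψ hψs
  set πM : M →* E R hr := ψ.comp M.subtype with hπM
  have heq : ∀ m : M, π₁ (m : S).1.1 = π (m : S).1.2 := fun m => (m : S).2
  have hcov : Cover R hr πM :=
    { surj := fun e => by
        obtain ⟨m, hm, rfl⟩ := (hM ▸ Subgroup.mem_top e : e ∈ M.map ψ)
        exact ⟨⟨m, hm⟩, rfl⟩
      central := fun m hm => by
        refine Subgroup.mem_center_iff.2 fun n => Subtype.ext (Subtype.ext (Prod.ext ?_ ?_))
        · exact Subgroup.mem_center_iff.1 (h₁.central hm) _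
        · exact Subgroup.mem_center_iff.1 (h.central ((heq m).symm.trans hm)) _
      pg := fun m => by
        obtain ⟨i, hi⟩ := h₁.pg ⟨_, m.2⟩
        obtain ⟨j, hj⟩ := h.pg ⟨_, (heq m.1).symm.trans m.2⟩
        have hi' : ((m : M) : S).1.1 ^ p ^ i = 1 := congrArg Subtype.val hi
        have hj' : ((m : M) : S).1.2 ^ p ^ j = 1 := congrArg Subtype.val hj
        refine ⟨i + j, Subtype.ext (Subtype.ext (Subtype.ext (Prod.ext ?_ ?_)))⟩
        · show ((m : M) : S).1.1 ^ p ^ (i + j) = 1
          rw [pow_add, pow_mul, hi', one_pow]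
        · show ((m : M) : S).1.2 ^ p ^ (i + j) = 1
          rw [pow_add, mul_comm, pow_mul, hj', one_pow]
      minimal := fun L hL => by
        have := hMmin (L.map M.subtype) (Subgroup.map_subtype_le L) (by rw [Subgroup.map_map]; exact hL)
        exact Subgroup.map_injective M.subtype_injective
          (this.trans (M.range_subtype.symm.trans (MonoidHom.range_eq_map _))) }
  let f : M →* G := (MonoidHom.fst G X).comp (S.subtype.comp M.subtype)
  let f' : M →* X := (MonoidHom.snd G X).comp (S.subtype.comp M.subtype)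
  have hfs : Function.Surjective f := MonoidHom.range_eq_top.1 (h₁.minimal _ (by
    rw [MonoidHom.range_eq_map, Subgroup.map_map]
    exact Subgroup.map_top_of_surjective _ hcov.surj))
  have hf's : Function.Surjective f' := MonoidHom.range_eq_top.1 (h.minimal _ (by
    rw [MonoidHom.range_eq_map, Subgroup.map_map]
    have : π.comp f' = πM := MonoidHom.ext fun m => (heq m).symm
    rw [this]
    exact Subgroup.map_top_of_surjective _ hcov.surj))
  have hle : Nat.card M ≤ Nat.card G := by
    rw [hcov.card, h₁.card, hker]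
    exact Nat.mul_le_mul_right _ (hcov.card_ker_le R hr hpq D (MulEquiv.refl M))
  haveI : Fintype M := Fintype.ofFinite M
  haveI : Fintype G := Fintype.ofFinite G
  have hbij : Function.Bijective f := hfs.bijective_of_nat_card_le hle
  refine ⟨f'.comp (MulEquiv.ofBijective f hbij).symm.toMonoidHom, ?_, fun g hg => h₁.central ?_⟩
  · exact hf's.comp (MulEquiv.ofBijective f hbij).symm.surjective
  · obtain ⟨m, rfl⟩ := hfs g
    have hm : f' m = 1 := by
      have : f' ((MulEquiv.ofBijective f hbij).symm (f m)) = 1 := hg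
      rwa [show f m = MulEquiv.ofBijective f hbij m from rfl, MulEquiv.symm_apply_apply] at this
    rw [MonoidHom.mem_ker]
    exact (heq m).trans (by rw [show (m : S).1.2 = 1 from hm, map_one])

end

end Cfsg.Agent.SchmidtUniv
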