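import Cfsg.Agent.Lib.FGStruct.Schmidt.Field

/-!
The field of the root of unity maps to every field with such a root.
-/

set_option autoImplicit false
set_option linter.style.haveILetI false

namespace Cfsg.Agent.SchmidtUniv

variable {p q : ℕ} [hp : Fact p.Prime] [hq : Fact q.Prime]
variable {F : Type} [Field F] [Finite F] [CharP F p] {ζ : F} {a : ℕ}

theorem RootData.exists_hom (R : RootData p q a F ζ) {S : Type*} [Field S] [CharP S p] {T : S}
    (hT : orderOf T = q) : ∃ φ : F →+* S, orderOf (φ ζ) = q := by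
  letI : Algebra (ZMod p) F := ZMod.algebra F p
  letI : Algebra (ZMod p) S := ZMod.algebra S p
  haveI : Module.Finite (ZMod p) F := Module.Finite.of_finite
  set f := minpoly (ZMod p) ζ with hf
  obtain ⟨g, hg⟩ : f ∣ Polynomial.X ^ q - 1 := minpoly.dvd _ _ (by
    rw [map_sub, map_pow, Polynomial.aeval_X, map_one, R.pow_eq, sub_self])
  have hint : IsIntegral (ZMod p) ζ := Algebra.IsIntegral.isIntegral ζ
  have hfpos : 0 < f.natDegree := minpoly.natDegree_pos hint
  have hTq : T ^ q = 1 := hT ▸ pow_orderOf_eq_one T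
  obtain ⟨s, hs⟩ : ∃ s : S, Polynomial.aeval s f = 0 := by
    by_contra hno
    push Not at hno
    have hX : (Polynomial.X ^ q - 1 : Polynomial (ZMod p)) ≠ 0 := fun h => by
      have := congrArg Polynomial.natDegree h
      rw [← Polynomial.C_1, Polynomial.natDegree_X_pow_sub_C, Polynomial.natDegree_zero] at this
      exact hq.out.ne_zero this
    have hg0 : g ≠ 0 := fun h => hX (by rw [hg, h, mul_zero])
    have hdeg : g.natDegree < q := by
      have h := Polynomial.natDegree_mul (minpoly.ne_zero hint) hg0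
      rw [← hf, ← hg, ← Polynomial.C_1, Polynomial.natDegree_X_pow_sub_C] at h
      omega
    have hroot : ∀ i : Fin q, (g.map (algebraMap (ZMod p) S)).eval (T ^ (i : ℕ)) = 0 := by
      intro i
      have h := congrArg (Polynomial.aeval (T ^ (i : ℕ))) hg
      rw [map_sub, map_pow, Polynomial.aeval_X, map_one, map_mul, ← pow_mul, mul_comm, pow_mul, hTq,
        one_pow, sub_self] at h
      rw [Polynomial.eval_map_algebraMap]
      exact (mul_eq_zero.1 h.symm).resolve_left (hno _)
    have := Polynomial.eq_zero_of_natDegree_lt_card_of_eval_eq_zero _ (f := fun i : Fin q => T ^ (i : ℕ))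
      (fun i j h => Fin.ext (pow_injOn_Iio_orderOf (Set.mem_Iio.2 (hT.symm ▸ i.2)) (Set.mem_Iio.2 (hT.symm ▸ j.2)) h))
      hroot (by rw [Fintype.card_fin]; exact lt_of_le_of_lt Polynomial.natDegree_map_le hdeg)
    exact hg0 (Polynomial.map_eq_zero _ |>.1 this)
  have hadj : Algebra.adjoin (ZMod p) ({ζ} : Set F) = ⊤ := by
    refine top_le_iff.1 fun c _ => ?_
    have hle : Subring.closure ({ζ} : Set F) ≤ (Algebra.adjoin (ZMod p) ({ζ} : Set F)).toSubring :=
      Subring.closure_le.2 Algebra.subset_adjoin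
    exact hle (R.gen ▸ Subring.mem_top c)
  obtain ⟨pb, hpb⟩ : ∃ pb : PowerBasis (ZMod p) F, pb.gen = ζ :=
    ⟨PowerBasis.ofAdjoinEqTop hint hadj, PowerBasis.ofAdjoinEqTop_gen _ _⟩
  refine ⟨(pb.lift s (by rw [hpb]; exact hs)).toRingHom, ?_⟩
  exact (orderOf_injective (pb.lift s _).toRingHom.toMonoidHom (RingHom.injective _) ζ).trans R.order

end Cfsg.Agent.SchmidtUniv
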