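import Cfsg.Agent.Lib.FGStruct.Schmidt.Cover
import Cfsg.Agent.Lib.FGStruct.Schmidt.RootHom
import Cfsg.Agent.Lib.Transfer.PGroup
import Cfsg.Agent.Lib.Solvable.NilpotentFrattini
import Cfsg.Agent.S0132

/-!
Every minimal non-nilpotent group with normal Sylow `p`-subgroup covers the semidirect product.
-/

set_option autoImplicit false
set_option linter.style.haveILetI false
open scoped commutatorElement Pointwise
open Multiplicative (ofAdd toAdd)

namespace Cfsg.Agent.SchmidtUniv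

variable {p q : ℕ} [hp : Fact p.Prime] [hq : Fact q.Prime]

theorem card_sup_le {X : Type*} [Group X] [Finite X] {H K : Subgroup X} (h : K ≤ Subgroup.normalizer (H : Set X)) :
    Nat.card ↥(H ⊔ K) ≤ Nat.card H * Nat.card K := by
  refine le_of_eq_of_le ?_ (Set.natCard_mul_le (s := (H : Set X)) (t := (K : Set X)))
  rw [← Subgroup.coe_mul_of_right_le_normalizer_left H K h]
  rfl

/-- Data extracted from a minimal group. -/
structure SchmidtData (p q r : ℕ) {X : Type*} [Group X] (P : Subgroup X) (g : X) (C : Subgroup X) : Prop where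
  normal : P.Normal
  ordg : orderOf g = q ^ r
  top : P ⊔ Subgroup.zpowers g = ⊤
  cardmul : Nat.card X = Nat.card P * q ^ r
  index : P.index = q ^ r
  pg : IsPGroup p P
  Cdef : ∀ c, c ∈ C ↔ c ∈ P ∧ g * c = c * g
  Cne : ¬ P ≤ C
  central : C ≤ Subgroup.center X
  gq : ∀ x ∈ P, g ^ q * x = x * g ^ q
  comm : ∀ a ∈ P, ∀ b ∈ P, ⁅a, b⁆ ∈ C
  expo : ∀ a ∈ P, a ^ p ∈ C
  fix : ∀ x ∈ P, x⁻¹ * (g * x * g⁻¹) ∈ C → x ∈ C
  irred : ∀ H : Subgroup X, C ≤ H → H ≤ P → (∀ h ∈ H, g * h * g⁻¹ ∈ H) → H = P ∨ H = C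

theorem exists_data (hpq : p ≠ q) {r : ℕ} (hr : 1 ≤ r) {X : Type*} [Group X] [Finite X]
    (h1 : ¬ Cfsg.HasNormalPComplement p X) (h2 : ∀ K : Subgroup X, K ≠ ⊤ → Cfsg.HasNormalPComplement p ↥K)
    {t : ℕ} (hcard : Nat.card X = p ^ t * q ^ r) :
    ∃ (P : Subgroup X) (g : X) (C : Subgroup X), SchmidtData p q r P g C := by
  obtain ⟨hnil, -, hnormal⟩ := S0132.result h1 h2
  obtain ⟨S⟩ : Nonempty (Sylow p X) := inferInstance
  set P : Subgroup X := (S : Subgroup X) with hP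
  haveI hPn : P.Normal := hnormal S
  have hppos : 0 < q ^ r := pow_pos hq.out.pos r
  have hcp : Nat.Coprime p (q ^ r) := ((Nat.coprime_primes hp.out hq.out).2 hpq).pow_right r
  have hPc : Nat.card P = p ^ t := by
    obtain ⟨k, hk⟩ := S.isPGroup'.exists_card_eq
    have hk' : p ^ k ∣ p ^ t * q ^ r := hk ▸ hcard ▸ P.card_subgroup_dvd_card
    have h3 : p ^ k ∣ p ^ t := (Nat.Coprime.pow_left k hcp).dvd_of_dvd_mul_right hk'
    have h4 : p ^ t ∣ p ^ k := by
      have h5 := P.card_mul_index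
      rw [hk, hcard] at h5
      have hi : Nat.Coprime (p ^ t) P.index :=
        Nat.Coprime.pow_left t ((hp.out.coprime_iff_not_dvd).2 S.not_dvd_index)
      exact hi.dvd_of_dvd_mul_right (h5 ▸ Dvd.intro _ rfl)
    exact (hk : Nat.card P = p ^ k).trans (Nat.dvd_antisymm h3 h4)
  have hidx : P.index = q ^ r := by
    have h5 := P.card_mul_index
    rw [hPc, hcard] at h5
    exact Nat.eq_of_mul_eq_mul_left (pow_pos hp.out.pos t) h5
  obtain ⟨Q⟩ : Nonempty (Sylow q X) := inferInstance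
  have hQc : Nat.card Q = q ^ r := by
    rw [Q.card_eq_multiplicity, hcard, Nat.factorization_mul (pow_ne_zero _ hp.out.ne_zero) (pow_ne_zero _ hq.out.ne_zero),
      Finsupp.add_apply, Nat.Prime.factorization_pow hp.out, Nat.Prime.factorization_pow hq.out,
      Finsupp.single_eq_of_ne' hpq, Finsupp.single_eq_same, zero_add]
  have hle : ∀ K : Subgroup X, K ≤ Subgroup.normalizer (P : Set X) := fun K => by
    rw [Subgroup.normalizer_eq_top P]; exact le_top
  have hco : ∀ y : X, ∀ s, orderOf y ∣ q ^ s → (orderOf y).Coprime p := fun y s h =>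
    (((Nat.coprime_primes hq.out hp.out).2 hpq.symm).pow_left s).coprime_dvd_left h
  have hcomm : ∀ (L : Subgroup X), L ≠ ⊤ → ∀ x ∈ L, x ∈ P → ∀ y ∈ L, (orderOf y).Coprime p → y * x = x * y := by
    intro L hL x hx hxP y hy hyo
    obtain ⟨i, hi⟩ := IsPGroup.iff_orderOf.1 S.isPGroup' ⟨x, hxP⟩
    rw [Subgroup.orderOf_mk] at hi
    exact congrArg Subtype.val (FixedPointFreeThompson.commute_of_nilpotent (hG := hnil L hL)
      (x := (⟨x, hx⟩ : L)) (g := ⟨y, hy⟩) (by rwa [Subgroup.orderOf_mk]) (by rwa [Subgroup.orderOf_mk]))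
  -- a generator of the top
  obtain ⟨g, hgQ, x₁, hx₁, hgx⟩ : ∃ g ∈ (Q : Subgroup X), ∃ x ∈ P, g * x ≠ x * g := by
    by_contra hcon
    push Not at hcon
    have hPQ : (Q : Subgroup X).IsComplement' P := Subgroup.isComplement'_of_coprime
      (by rw [hQc, hPc, hcard, mul_comm]) (by rw [hQc, hPc]; exact (Nat.Coprime.pow_left t hcp).symm)
    refine h1 ⟨S, Q, Subgroup.normalizer_eq_top_iff.1 (top_le_iff.1 ?_), hPQ⟩
    rw [← hPQ.sup_eq_top, sup_le_iff]
    refine ⟨Subgroup.le_normalizer, fun x hx => Subgroup.mem_normalizer_fintype fun y hy => ?_⟩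
    rw [← hcon y hy x hx, mul_inv_cancel_right]
    exact hy
  have hgdvd : orderOf g ∣ q ^ r := hQc ▸ Subgroup.orderOf_dvd_natCard _ hgQ
  have hbound : ∀ y : X, Nat.card P * orderOf y < Nat.card X → P ⊔ Subgroup.zpowers y ≠ ⊤ := fun y hy h => by
    have h3 := card_sup_le (hle (Subgroup.zpowers y))
    rw [h, Subgroup.card_top, Nat.card_zpowers] at h3
    omega
  have hgord : orderOf g = q ^ r := by
    by_contra hne
    refine hgx (hcomm _ (hbound g ?_) x₁ (Subgroup.mem_sup_left hx₁) hx₁ g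
      (Subgroup.mem_sup_right (Subgroup.mem_zpowers g)) (hco g r hgdvd))
    rw [hPc, hcard]
    exact Nat.mul_lt_mul_of_pos_left (lt_of_le_of_ne (Nat.le_of_dvd hppos hgdvd) hne) (pow_pos hp.out.pos t)
  have hco' : (orderOf g).Coprime p := hco g r hgdvd
  have htop : P ⊔ Subgroup.zpowers g = ⊤ := by
    by_contra hne
    exact hgx (hcomm _ hne x₁ (Subgroup.mem_sup_left hx₁) hx₁ g
      (Subgroup.mem_sup_right (Subgroup.mem_zpowers g)) hco')
  have hgq : ∀ x ∈ P, g ^ q * x = x * g ^ q := fun x hx => by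
    have ho : orderOf (g ^ q) = q ^ (r - 1) := by
      rw [orderOf_pow_of_dvd hq.out.ne_zero (hgord ▸ dvd_pow_self q (by omega)), hgord]
      conv_lhs => rw [show r = (r - 1) + 1 by omega, pow_succ]
      exact Nat.mul_div_cancel _ hq.out.pos
    refine hcomm _ (hbound _ ?_) x (Subgroup.mem_sup_left hx) hx _
      (Subgroup.mem_sup_right (Subgroup.mem_zpowers _)) (hco _ (r - 1) ho.dvd)
    rw [ho, hPc, hcard]
    exact Nat.mul_lt_mul_of_pos_left (Nat.pow_lt_pow_right hq.out.one_lt (by omega)) (pow_pos hp.out.pos t)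
  -- the centraliser
  set C : Subgroup X := P ⊓ Subgroup.centralizer ({g} : Set X) with hC
  have hCdef : ∀ c, c ∈ C ↔ c ∈ P ∧ g * c = c * g := fun c => by
    rw [hC, Subgroup.mem_inf, Subgroup.mem_centralizer_singleton_iff]
    exact and_congr_right fun _ => eq_comm
  have hinv : ∀ H : Subgroup X, H ≤ P → H ≠ P → (∀ h ∈ H, g * h * g⁻¹ ∈ H) → H ≤ C := by
    intro H hHP hne hH h hh
    refine (hCdef h).2 ⟨hHP hh, hcomm (H ⊔ Subgroup.zpowers g) (fun htop' => ?_) h (Subgroup.mem_sup_left hh)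
      (hHP hh) g (Subgroup.mem_sup_right (Subgroup.mem_zpowers g)) hco'⟩
    have h3 := card_sup_le (H := H) (K := Subgroup.zpowers g)
      (Subgroup.zpowers_le.2 (Subgroup.mem_normalizer_fintype hH))
    rw [htop', Subgroup.card_top, Nat.card_zpowers, hgord, hcard, ← hPc] at h3
    exact hne (Subgroup.eq_of_le_of_card_ge hHP (Nat.le_of_mul_le_mul_right h3 hppos))
  have hCne : ¬ P ≤ C := fun h => hgx ((hCdef x₁).1 (h hx₁)).2
  have hPnt : Nontrivial P := (Subgroup.nontrivial_iff_ne_bot P).2 fun h => hCne (h ▸ bot_le)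
  have hPnil : Group.IsNilpotent P := S.isPGroup'.isNilpotent
  have hPhi : (frattini P).map P.subtype ≤ C := by
    haveI : ((frattini P).map P.subtype).Normal := inferInstance
    refine hinv _ (Subgroup.map_subtype_le _) (fun h => ?_) fun h hh => this.conj_mem h hh g
    have h3 : frattini P = ⊤ := by
      apply Subgroup.map_injective P.subtype_injective
      rw [h, ← MonoidHom.range_eq_map, Subgroup.range_subtype]
    exact bot_ne_top (frattini_nongenerating (K := (⊥ : Subgroup P)) (by rw [h3, bot_sup_eq]))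
  have hexp : ∀ a ∈ P, a ^ p ∈ C := fun a ha =>
    hPhi ⟨_, PGroupBasics.pow_mem_frattini S.isPGroup' (⟨a, ha⟩ : P), rfl⟩
  have hcomC : ∀ a ∈ P, ∀ b ∈ P, ⁅a, b⁆ ∈ C := fun a ha b hb =>
    hPhi ⟨_, SolvStruct.commutator_le_frattini _ (Subgroup.commutator_mem_commutator
      (Subgroup.mem_top (⟨a, ha⟩ : P)) (Subgroup.mem_top (⟨b, hb⟩ : P))), rfl⟩
  have hfix : ∀ x ∈ P, x⁻¹ * (g * x * g⁻¹) ∈ C → x ∈ C := by
    intro x hx hc
    set c := x⁻¹ * (g * x * g⁻¹) with hcdef
    obtain ⟨hcP, hgc⟩ := (hCdef c).1 hc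
    have hit : ∀ m : ℕ, g ^ m * x * (g ^ m)⁻¹ = x * c ^ m := by
      intro m
      induction m with
      | zero => simp
      | succ m ih =>
        calc g ^ (m + 1) * x * (g ^ (m + 1))⁻¹ = g * (g ^ m * x * (g ^ m)⁻¹) * g⁻¹ := by rw [pow_succ']; group
          _ = g * x * g⁻¹ * (g * c ^ m * g⁻¹) := by rw [ih]; group
          _ = g * x * g⁻¹ * c ^ m := by rw [(Commute.pow_right hgc m).eq, mul_inv_cancel_right]
          _ = x * c ^ (m + 1) := by
              rw [show g * x * g⁻¹ = x * c by rw [hcdef]; group, pow_succ', mul_assoc]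
    have h3 := hit (q ^ r)
    rw [← hgord, pow_orderOf_eq_one, one_mul, inv_one, mul_one, hgord, eq_comm, mul_eq_left] at h3
    obtain ⟨i, hi⟩ := IsPGroup.iff_orderOf.1 S.isPGroup' ⟨c, hcP⟩
    rw [Subgroup.orderOf_mk] at hi
    have hc1 : c = 1 := orderOf_eq_one_iff.1 (Nat.eq_one_of_dvd_coprimes (Nat.Coprime.pow_left i hcp) hi.dvd
      (orderOf_dvd_of_pow_eq_one h3))
    refine (hCdef x).2 ⟨hx, ?_⟩
    rw [hcdef, inv_mul_eq_one, eq_mul_inv_iff_mul_eq] at hc1
    exact hc1.symm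
  have hCn : ∀ c ∈ C, ∀ x ∈ P, x * c * x⁻¹ ∈ C := fun c hc x hx => by
    rw [show x * c * x⁻¹ = ⁅x, c⁆ * c by rw [commutatorElement_def, inv_mul_cancel_right]]
    exact mul_mem (hcomC x hx c ((hCdef c).1 hc).1) hc
  have hCZ : C ≤ Subgroup.center X := by
    intro c hc
    have hgc := ((hCdef c).1 hc).2
    set Cc := P ⊓ Subgroup.centralizer ({c} : Set X) with hCc
    set M := Subgroup.closure ((fun x => x⁻¹ * (g * x * g⁻¹)) '' (P : Set X)) with hM
    have hMP : M ≤ P := (Subgroup.closure_le _).2 (by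
      rintro _ ⟨x, hx, rfl⟩
      exact mul_mem (inv_mem hx) (hPn.conj_mem x hx g))
    have hMg : ∀ h ∈ M, g * h * g⁻¹ ∈ M := by
      have hle' : M ≤ M.comap (MulAut.conj g).toMonoidHom := (Subgroup.closure_le _).2 (by
        rintro _ ⟨x, hx, rfl⟩
        refine Subgroup.subset_closure ⟨g * x * g⁻¹, hPn.conj_mem x hx g, ?_⟩
        show (g * x * g⁻¹)⁻¹ * (g * (g * x * g⁻¹) * g⁻¹) = g * (x⁻¹ * (g * x * g⁻¹)) * g⁻¹
        group)
      exact fun h hh => hle' hh
    have hMtop : M = P := by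
      by_contra hne
      exact hCne fun x hx => hfix x hx (hinv M hMP hne hMg (Subgroup.subset_closure ⟨x, hx, rfl⟩))
    have hPc' : M ≤ Cc := (Subgroup.closure_le _).2 (by
      rintro _ ⟨x, hx, rfl⟩
      refine Subgroup.mem_inf.2 ⟨mul_mem (inv_mem hx) (hPn.conj_mem x hx g),
        Subgroup.mem_centralizer_singleton_iff.2 ?_⟩
      have h3 : g * (x * c * x⁻¹) = x * c * x⁻¹ * g := ((hCdef _).1 (hCn c hc x hx)).2
      show x⁻¹ * (g * x * g⁻¹) * c = c * (x⁻¹ * (g * x * g⁻¹))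
      calc x⁻¹ * (g * x * g⁻¹) * c = x⁻¹ * g * x * (g⁻¹ * c) := by group
        _ = x⁻¹ * g * x * (c * g⁻¹) := by
            rw [(Commute.inv_left (show Commute g c from hgc)).eq]
        _ = x⁻¹ * (g * (x * c * x⁻¹)) * x * g⁻¹ := by group
        _ = _ := by rw [h3]; group)
    refine Subgroup.mem_center_iff.2 fun y => ?_
    have hall : P ⊔ Subgroup.zpowers g ≤ Subgroup.centralizer ({c} : Set X) :=
      sup_le (fun x hx => (Subgroup.mem_inf.1 (hPc' (hMtop.ge hx))).2)
        (Subgroup.zpowers_le.2 (Subgroup.mem_centralizer_singleton_iff.2 hgc))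
    rw [htop] at hall
    exact Subgroup.mem_centralizer_singleton_iff.1 (hall (Subgroup.mem_top y))
  refine ⟨P, g, C, hPn, hgord, htop, by rw [hPc, hcard], hidx, S.isPGroup', hCdef, hCne, hCZ, hgq, hcomC, hexp,
    hfix, fun H hCH hHP hH => ?_⟩
  by_cases hne : H = P
  · exact Or.inl hne
  · exact Or.inr (le_antisymm (hinv H hHP hne hH) hCH)

variable {F : Type} [Field F] [Finite F] [CharP F p] {ζ : F} {a r : ℕ}

theorem exists_cover (R : RootData p q a F ζ) (hr : 1 ≤ r) (hpq : p ≠ q) {X : Type*} [Group X] [Finite X]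
    (h1 : ¬ Cfsg.HasNormalPComplement p X) (h2 : ∀ K : Subgroup X, K ≠ ⊤ → Cfsg.HasNormalPComplement p ↥K)
    {t : ℕ} (hcard : Nat.card X = p ^ t * q ^ r) : ∃ π : X →* E R hr, Cover R hr π := by
  obtain ⟨P, g, C, D⟩ := exists_data hpq hr h1 h2 hcard
  haveI hPn := D.normal
  haveI hCn : C.Normal := ⟨fun c hc x => by
    rw [Subgroup.mem_center_iff.1 (D.central hc) x, mul_inv_cancel_right]; exact hc⟩
  have hCP : C ≤ P := fun c hc => ((D.Cdef c).1 hc).1
  letI instCG : CommGroup (↥P ⧸ C.subgroupOf P) :=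
    { (inferInstance : Group (↥P ⧸ C.subgroupOf P)) with
      mul_comm := fun x y => by
        obtain ⟨x, rfl⟩ := QuotientGroup.mk'_surjective (C.subgroupOf P) x
        obtain ⟨y, rfl⟩ := QuotientGroup.mk'_surjective (C.subgroupOf P) y
        rw [← commutatorElement_eq_one_iff_mul_comm, ← map_commutatorElement]
        exact (QuotientGroup.eq_one_iff _).2 (Subgroup.mem_subgroupOf.2 (D.comm x x.2 y y.2)) }
  let V := Additive (↥P ⧸ C.subgroupOf P)
  let mkV : ↥P → V := fun x => Additive.ofMul (QuotientGroup.mk' (C.subgroupOf P) x)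
  have hmksurj : Function.Surjective mkV := fun v => by
    obtain ⟨x, hx⟩ := QuotientGroup.mk'_surjective (C.subgroupOf P) (Additive.toMul v)
    exact ⟨x, congrArg Additive.ofMul hx⟩
  have hmk0 : ∀ x : P, mkV x = 0 ↔ (x : X) ∈ C := fun x =>
    (QuotientGroup.eq_one_iff x).trans Subgroup.mem_subgroupOf
  let T : AddMonoid.End V := MonoidHom.toAdditive (QuotientGroup.map (C.subgroupOf P) (C.subgroupOf P)
    (MulAut.conjNormal g : MulAut P).toMonoidHom fun x hx => by
      show g * (x : X) * g⁻¹ ∈ C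
      exact hCn.conj_mem _ hx g)
  have hTpow : ∀ (m : ℕ) (x : P), (T ^ m) (mkV x) = mkV ((MulAut.conjNormal (g ^ m) : MulAut P) x) := by
    intro m
    induction m with
    | zero => intro x; rw [pow_zero, pow_zero, map_one]; rfl
    | succ m ih =>
      intro x
      rw [pow_succ', pow_succ' g, map_mul, MulAut.mul_apply]
      show T ((T ^ m) (mkV x)) = _
      rw [ih]
      rfl
  have hTq : T ^ q = 1 := AddMonoidHom.ext fun v => by
    obtain ⟨x, rfl⟩ := hmksurj v
    refine (hTpow q x).trans ?_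
    show mkV _ = mkV x
    congr 1
    refine Subtype.ext ?_
    show g ^ q * (x : X) * (g ^ q)⁻¹ = x
    rw [D.gq x x.2, mul_inv_cancel_right]
  obtain ⟨x₁, hx₁, hx₁C⟩ := Set.not_subset.1 D.Cne
  have hT1 : T ≠ 1 := fun h => hx₁C (D.fix x₁ hx₁ (by
    have h3 := hTpow 1 ⟨x₁, hx₁⟩
    rw [pow_one, h] at h3
    have h4 : mkV (⟨x₁, hx₁⟩⁻¹ * (MulAut.conjNormal (g ^ 1) : MulAut P) ⟨x₁, hx₁⟩) = 0 := by
      show Additive.ofMul (QuotientGroup.mk' (C.subgroupOf P) _) = 0
      rw [map_mul, map_inv]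
      exact neg_add_eq_zero.2 (h3 : mkV ⟨x₁, hx₁⟩ = _)
    have h5 := (hmk0 _).1 h4
    rwa [pow_one] at h5))
  have hirr : ∀ A : AddSubgroup V, (∀ v ∈ A, T v ∈ A) → A = ⊥ ∨ A = ⊤ := by
    intro A hA
    let H : Subgroup X :=
      { carrier := {x | ∃ hx : x ∈ P, mkV ⟨x, hx⟩ ∈ A}
        one_mem' := ⟨one_mem P, by
          rw [show mkV ⟨1, one_mem P⟩ = 0 from (hmk0 _).2 (one_mem C)]; exact zero_mem A⟩
        mul_mem' := fun {x y} ⟨hx, hxA⟩ ⟨hy, hyA⟩ => ⟨mul_mem hx hy, add_mem hxA hyA⟩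
        inv_mem' := fun {x} ⟨hx, hxA⟩ => ⟨inv_mem hx, neg_mem hxA⟩ }
    rcases D.irred H (fun c hc => ⟨hCP hc, by rw [(hmk0 ⟨c, hCP hc⟩).2 hc]; exact zero_mem A⟩)
      (fun x hx => hx.1) (fun x ⟨hx, hxA⟩ => ⟨hPn.conj_mem x hx g, hA _ hxA⟩) with h | h
    · refine Or.inr (eq_top_iff.2 fun v _ => ?_)
      obtain ⟨⟨x, hx⟩, rfl⟩ := hmksurj v
      exact (h.ge hx : x ∈ H).2
    · refine Or.inl (eq_bot_iff.2 fun v hv => ?_)
      obtain ⟨⟨x, hx⟩, rfl⟩ := hmksurj v
      exact (AddSubgroup.mem_bot).2 ((hmk0 _).2 (h.le (⟨hx, hv⟩ : x ∈ H)))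
  haveI hVnt : Nontrivial V := ⟨mkV ⟨x₁, hx₁⟩, 0, fun h => hx₁C ((hmk0 _).1 h)⟩
  haveI : Finite (AddMonoid.End V) := Finite.of_injective (fun f => (f : V → V)) DFunLike.coe_injective
  -- the commutant generated by `T`
  let S : Subring (AddMonoid.End V) := Subring.closure {T}
  letI : CommRing S := Subring.closureCommRingOfComm (fun a ha b hb => by simp_all)
  have hScomm : ∀ s ∈ S, ∀ v, T (s v) = s (T v) := fun s hs v => by
    have h := congrArg Subtype.val (mul_comm (⟨T, Subring.subset_closure rfl⟩ : S) ⟨s, hs⟩)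
    exact DFunLike.congr_fun h v
  have hinj : ∀ s : S, s ≠ 0 → ∀ v, (s : AddMonoid.End V) v = 0 → v = 0 := by
    intro s hs v hv
    rcases hirr (AddMonoidHom.ker ((s : AddMonoid.End V) : V →+ V)) (fun w hw => by
      show (s : AddMonoid.End V) (T w) = 0
      rw [← hScomm s s.2, show (s : AddMonoid.End V) w = 0 from hw, map_zero]) with h | h
    · exact (AddSubgroup.mem_bot).1 (h.le hv)
    · exact absurd (Subtype.ext (AddMonoidHom.ext fun w =>
        (AddMonoidHom.mem_ker.1 (h.ge (AddSubgroup.mem_top w))).trans rfl)) hs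
  haveI : NoZeroDivisors S := ⟨fun {s t} hst => by
    by_contra hcon
    push Not at hcon
    refine hcon.2 (Subtype.ext (AddMonoidHom.ext fun w => ?_))
    exact hinj s hcon.1 _ (DFunLike.congr_fun (congrArg Subtype.val hst) w)⟩
  haveI : Nontrivial S := ⟨⟨0, 1, fun h => by
    obtain ⟨v, hv⟩ := exists_ne (0 : V)
    exact hv (DFunLike.congr_fun (congrArg Subtype.val h) v).symm⟩⟩
  haveI : IsDomain S := NoZeroDivisors.to_isDomain S
  letI : Fintype S := Fintype.ofFinite S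
  classical
  letI : Field S := Fintype.fieldOfDomain S
  haveI : CharP S p := (CharP.charP_iff_prime_eq_zero hp.out).2 (Subtype.ext (AddMonoidHom.ext fun v => by
    obtain ⟨x, rfl⟩ := hmksurj v
    show (p : AddMonoid.End V) (mkV x) = 0
    rw [AddMonoid.End.natCast_apply]
    show mkV (x ^ p) = 0
    exact (hmk0 _).2 (D.expo x x.2)))
  have hordT : orderOf (⟨T, Subring.subset_closure rfl⟩ : S) = q :=
    orderOf_eq_prime (Subtype.ext hTq) fun h => hT1 (congrArg Subtype.val h)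
  obtain ⟨φ, hφ⟩ := R.exists_hom hordT
  set Ts : S := ⟨T, Subring.subset_closure rfl⟩ with hTs
  have hprim : IsPrimitiveRoot Ts q := hordT ▸ IsPrimitiveRoot.orderOf Ts
  haveI : NeZero q := ⟨hq.out.ne_zero⟩
  obtain ⟨j, -, hj⟩ := hprim.eq_pow_of_pow_eq_one (ξ := φ ζ) (hφ ▸ pow_orderOf_eq_one (φ ζ))
  have hprim' : IsPrimitiveRoot (φ ζ) q := hφ ▸ IsPrimitiveRoot.orderOf (φ ζ)
  obtain ⟨i, -, hi⟩ := hprim'.eq_pow_of_pow_eq_one (ξ := Ts) (hordT ▸ pow_orderOf_eq_one Ts)
  have hφsurj : Function.Surjective φ := fun s => by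
    have hle : S ≤ φ.range.map S.subtype := Subring.closure_le.2 (Set.singleton_subset_iff.2
      ⟨Ts, ⟨ζ ^ i, by rw [map_pow]; exact hi⟩, rfl⟩)
    obtain ⟨s', ⟨v, rfl⟩, hs'⟩ := hle s.2
    exact ⟨v, Subtype.ext hs'⟩
  obtain ⟨v₀, hv₀⟩ := exists_ne (0 : V)
  let ψ : F →+ V := AddMonoidHom.mk' (fun v => ((φ v : S) : AddMonoid.End V) v₀)
    fun v w => by rw [map_add]; rfl
  have hψinj : Function.Injective ψ := (injective_iff_map_eq_zero ψ).2 fun v hv => by
    by_contra hne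
    exact hv₀ (hinj (φ v) (fun h => hne (φ.injective (h.trans (map_zero φ).symm))) v₀ hv)
  have hψζ : ∀ v, ψ (ζ * v) = (T ^ j) (ψ v) := fun v => by
    show ((φ (ζ * v) : S) : AddMonoid.End V) v₀ = _
    rw [map_mul, ← hj]
    rfl
  have hψsurj : Function.Surjective ψ := by
    rcases hirr ψ.range (fun w hw => by
      obtain ⟨v, rfl⟩ := hw
      refine ⟨ζ ^ i * v, ?_⟩
      show ((φ (ζ ^ i * v) : S) : AddMonoid.End V) v₀ = _
      rw [map_mul, map_pow, hi]
      rfl) with h | h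
    · exfalso
      have h1' := h.le (AddMonoidHom.mem_range.2 ⟨1, rfl⟩)
      rw [AddSubgroup.mem_bot] at h1'
      exact one_ne_zero (hψinj (h1'.trans (map_zero ψ).symm))
    · exact AddMonoidHom.range_eq_top.1 h
  -- the new generator
  have hjq : ¬ q ∣ j := fun h => by
    have := hφ
    rw [← hj, orderOf_eq_prime_iff] at this
    refine this.2 ?_
    obtain ⟨c, rfl⟩ := h
    rw [pow_mul, show Ts ^ q = 1 from Subtype.ext hTq, one_pow]
  set g' := g ^ j with hg'
  have hg'ord : orderOf g' = q ^ r := by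
    rw [hg', Nat.Coprime.orderOf_pow (D.ordg ▸ ((hq.out.coprime_iff_not_dvd.2 hjq).pow_left r))]
    exact D.ordg
  have hgg' : Subgroup.zpowers g' = Subgroup.zpowers g :=
    Subgroup.eq_of_le_of_card_ge (Subgroup.zpowers_le.2 (pow_mem (Subgroup.mem_zpowers g) j))
      (by rw [Nat.card_zpowers, Nat.card_zpowers, hg'ord, D.ordg])
  -- the isomorphism
  let mkC := QuotientGroup.mk' C
  let ι : ↥P ⧸ C.subgroupOf P →* X ⧸ C := QuotientGroup.map _ _ P.subtype fun _ hx => hx
  let f1 : Multiplicative F →* X ⧸ C := ι.comp (MonoidHom.mk' (fun v => Additive.toMul (ψ (toAdd v)))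
    fun v w => by rw [toAdd_mul, map_add]; rfl)
  let f2 : Multiplicative (ZMod (q ^ r)) →* X ⧸ C := MonoidHom.mk' (fun k => mkC g' ^ (toAdd k).val) fun k l => by
    rw [toAdd_mul, ← pow_add, ZMod.val_add, ← pow_eq_pow_mod]
    rw [← map_pow, ← hg'ord, pow_orderOf_eq_one, map_one]
  have hconj : ∀ (k : ℕ) (v : F), f1 (ofAdd (ζ ^ k * v)) = mkC g' ^ k * f1 (ofAdd v) * (mkC g' ^ k)⁻¹ := by
    intro k
    induction k with
    | zero => intro v; simp
    | succ k ih =>
      intro v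
      have h3 : ∀ w : F, f1 (ofAdd (ζ * w)) = mkC g' * f1 (ofAdd w) * (mkC g')⁻¹ := fun w => by
        obtain ⟨x, hx⟩ := hmksurj (ψ w)
        show ι (Additive.toMul (ψ (ζ * w))) = mkC g' * ι (Additive.toMul (ψ w)) * (mkC g')⁻¹
        rw [hψζ, ← hx, hTpow, ← map_inv]
        rfl
      rw [pow_succ', mul_assoc, h3, ih, pow_succ']
      group
  have hcompat : ∀ k : Multiplicative (ZMod (q ^ r)),
      f1.comp ((act (n := q ^ r) (R.pow_qr hr)) k).toMonoidHom = (MulAut.conj (f2 k)).toMonoidHom.comp f1 :=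
    fun k => MonoidHom.ext fun v => hconj (toAdd k).val (toAdd v)
  let Φ : E R hr →* X ⧸ C := SemidirectProduct.lift f1 f2 hcompat
  have hΦs : Function.Surjective Φ := by
    rw [← MonoidHom.range_eq_top]
    have hle : P ⊔ Subgroup.zpowers g' ≤ Φ.range.comap mkC := sup_le (fun x hx => by
      obtain ⟨v, hv⟩ := hψsurj (mkV ⟨x, hx⟩)
      refine ⟨SemidirectProduct.inl (ofAdd v), ?_⟩
      rw [SemidirectProduct.lift_inl]
      show ι (Additive.toMul (ψ v)) = _
      rw [hv]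
      rfl) (Subgroup.zpowers_le.2 ⟨g0 R hr, by
        rw [g0, SemidirectProduct.lift_inr]
        show mkC g' ^ (1 : ZMod (q ^ r)).val = _
        haveI : Fact (1 < q ^ r) := ⟨Nat.one_lt_pow (by omega) hq.out.one_lt⟩
        rw [ZMod.val_one, pow_one]⟩)
    rw [hgg', D.top] at hle
    refine eq_top_iff.2 fun y _ => ?_
    obtain ⟨x, rfl⟩ := QuotientGroup.mk'_surjective C y
    exact hle (Subgroup.mem_top x)
  have hcardE : Nat.card (E R hr) ≤ Nat.card (X ⧸ C) := le_of_eq (by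
    have h3 : Nat.card F = (C.subgroupOf P).index := by
      rw [Subgroup.index_eq_card]
      exact Nat.card_congr ((Equiv.ofBijective ψ ⟨hψinj, hψsurj⟩).trans Additive.toMul)
    rw [card_E, ← Subgroup.index_eq_card, ← Subgroup.relIndex_mul_index hCP, D.index, ← R.card, h3]
    rfl)
  have hΦ : Function.Bijective Φ := hΦs.bijective_of_nat_card_le hcardE
  let e := MulEquiv.ofBijective Φ hΦ
  refine ⟨e.symm.toMonoidHom.comp mkC, ?_⟩
  have hker : (e.symm.toMonoidHom.comp mkC).ker = C := by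
    ext x
    rw [MonoidHom.mem_ker, MonoidHom.comp_apply, MulEquiv.coe_toMonoidHom, EmbeddingLike.map_eq_one_iff]
    exact QuotientGroup.eq_one_iff x
  exact {
    surj := e.symm.surjective.comp (QuotientGroup.mk'_surjective C)
    central := by rw [hker]; exact D.central
    pg := by rw [hker]; exact D.pg.to_le hCP
    minimal := fun K hK => by
      by_contra hne
      refine not_npc R hr hpq (PBasic.hasNormalPComplement_of_surjective
        ((e.symm.toMonoidHom.comp mkC).comp K.subtype) ?_ (h2 K hne))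
      rw [← MonoidHom.range_eq_top, MonoidHom.range_eq_map, ← Subgroup.map_map, ← MonoidHom.range_eq_map,
        Subgroup.range_subtype]
      exact hK }

end Cfsg.Agent.SchmidtUniv
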